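import Mathlib
import Cfsg.Agent.H904.McLCent
import Cfsg.Agent.H134.Sq.Base_m3
import Cfsg.Agent.H643.PwCnt
import Cfsg.Agent.Lib.ListFast
import Cfsg.Agent.FastGrp
import Cfsg.Agent.Prune
set_option linter.all false

section
prune_inst 0x7f00000000000000000000000000000000000000000000000000000000000000000000000000000000000000000000000000000000000000000000000000000000000000000000000000000000000000003fffffffffffffffffffffffffffbeffbdffffffff

-- part: H235/Ore/Eng
section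
set_option linter.all false
open scoped Cfsg.Agent.FastGrp

/-!
# Exact upper bounds for centralizers in groups of permutations preserving a colouring; complete class lists (helper235)

`le_of_run` : a subgroup of `Perm (Fin n)` which preserves `R` and commutes with `x` has order at most the product of
the numbers of candidates. Tests of a point `y`: colours of `(f, y)` for fixed points `f`, colours of `(y, x ^ k y)`,
and numbers of points `z` with `R y z = 1` satisfying such tests.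

`complete` : class lists of a normal subgroup by counting.
-/

set_option autoImplicit false

namespace Cfsg.Agent.H235.Ore.Eng

open Subgroup Equiv

/-! ### Counting -/

/-- the number of `k < n` with `P k` -/
def cnt (n : ℕ) (P : ℕ → Bool) : ℕ := Nat.rec 0 (fun k ih => bif P k then Nat.succ ih else ih) n

/-- the list of the `k < n` with `P k`, in decreasing order -/
def filt (n : ℕ) (P : ℕ → Bool) : List ℕ := Nat.rec [] (fun k ih => bif P k then k :: ih else ih) n

theorem cnt_succ (n : ℕ) (P : ℕ → Bool) : cnt (n + 1) P = bif P n then Nat.succ (cnt n P) else cnt n P := rfl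

theorem filt_succ (n : ℕ) (P : ℕ → Bool) : filt (n + 1) P = bif P n then n :: filt n P else filt n P := rfl

theorem card_filter (n : ℕ) (P : ℕ → Bool) : ((Finset.range n).filter (fun y => P y = true)).card = cnt n P := by
  induction n with
  | zero => rfl
  | succ k ih =>
    rw [Finset.range_add_one, Finset.filter_insert, cnt_succ]
    rcases hP : P k with _ | _
    · rw [if_neg (by simp), cond_false, ih]
    · rw [if_pos rfl, cond_true, Finset.card_insert_of_notMem (by simp), ih]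

theorem cnt_fin (n : ℕ) (P : ℕ → Bool) : cnt n P = (Finset.univ.filter fun z : Fin n => P z = true).card := by
  rw [← card_filter, ← Finset.card_map Fin.valEmbedding]
  congr 1
  ext y
  simp only [Finset.mem_filter, Finset.mem_range, Finset.mem_map, Finset.mem_univ, true_and, Fin.valEmbedding_apply]
  constructor
  · rintro ⟨h1, h2⟩
    exact ⟨⟨y, h1⟩, h2, rfl⟩
  · rintro ⟨z, h1, rfl⟩
    exact ⟨z.2, h1⟩

theorem cnt_perm {n : ℕ} (c : Perm (Fin n)) {P Q : ℕ → Bool} (h : ∀ z : Fin n, P (c z) = Q z) : cnt n Q = cnt n P := by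
  rw [cnt_fin, cnt_fin]
  refine Finset.card_bij (fun z _ => c z) (fun z hz => ?_) (fun a _ b _ e => c.injective e) fun z hz => ?_
  · rw [Finset.mem_filter] at hz ⊢
    exact ⟨Finset.mem_univ _, by rw [h]; exact hz.2⟩
  · rw [Finset.mem_filter] at hz
    refine ⟨c.symm z, ?_, c.apply_symm_apply z⟩
    rw [Finset.mem_filter]
    refine ⟨Finset.mem_univ _, ?_⟩
    rw [← h, c.apply_symm_apply]
    exact hz.2

/-- membership -/
def elemN (a : ℕ) (l : List ℕ) : Bool := l.any fun b => Nat.beq a b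

theorem of_elemN {a : ℕ} {l : List ℕ} (h : elemN a l = true) : a ∈ l := by
  unfold elemN at h
  rw [List.any_eq_true] at h
  obtain ⟨b, hb, e⟩ := h
  rw [Nat.eq_of_beq_eq_true e]
  exact hb

/-- equality of lists -/
def beqL : List ℕ → List ℕ → Bool
  | [], [] => true
  | a :: l, b :: m => and (Nat.beq a b) (beqL l m)
  | _, _ => false

theorem eq_of_beqL : ∀ {l m : List ℕ}, beqL l m = true → l = m
  | [], [], _ => rfl
  | a :: l, b :: m, h => by
    rw [beqL, Bool.and_eq_true] at h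
    rw [Nat.eq_of_beq_eq_true h.1, eq_of_beqL h.2]
  | [], _ :: _, h => by simp [beqL] at h
  | _ :: _, [], h => by simp [beqL] at h

theorem all_congr' {α : Type*} {p q : α → Bool} : ∀ {l : List α}, (∀ a ∈ l, p a = q a) → l.all p = l.all q
  | [], _ => rfl
  | a :: l, h => by
    rw [List.all_cons, List.all_cons, h a List.mem_cons_self, all_congr' fun b hb => h b (List.mem_cons_of_mem _ hb)]

/-! ### Certificates -/

/-- a count: tests of the points `z`, the list of the points `z` satisfying the tests, the number of neighbours -/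
structure Ct where
  fs : List (ℕ × ℕ)
  ks : List (ℕ × ℕ)
  Z : List ℕ
  v : ℕ

/-- a level: point, tests `R f y = v`, tests `R y (x ^ k y) = v`, counts, number of candidates -/
structure Lv where
  p : ℕ
  fs : List (ℕ × ℕ)
  ks : List (ℕ × ℕ)
  cs : List Ct
  n : ℕ

/-- the bound -/
def bd : List Lv → ℕ
  | [] => 1
  | s :: l => s.n * bd l

section

variable (n : ℕ) (R : ℕ → ℕ → ℕ) (pv : ℕ → ℕ → ℕ)

/-- the tests of a point `y` -/
def tt (fs ks : List (ℕ × ℕ)) (y : ℕ) : Bool :=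
  and (fs.all fun f => Nat.beq (R f.1 y) f.2) (ks.all fun k => Nat.beq (R y (pv k.1 y)) k.2)

/-- the number of neighbours of `y` in `Z` -/
def cz (y : ℕ) (Z : List ℕ) : ℕ := Z.foldr (fun z a => bif Nat.beq (R y z) 1 then Nat.succ a else a) 0

/-- the candidates -/
def cand (s : Lv) (y : ℕ) : Bool := and (tt R pv s.fs s.ks y) (s.cs.all fun t => Nat.beq (cz R y t.Z) t.v)

/-- the level is correct -/
def vOk (F : List ℕ) (s : Lv) : Bool :=
  and (Nat.blt s.p n) (and (s.fs.all fun f => elemN f.1 F) (and (s.cs.all fun t => and (t.fs.all fun f => elemN f.1 F)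
    (beqL (filt n (tt R pv t.fs t.ks)) t.Z)) (cand R pv s s.p)))

/-- the points fixed after the level `p` -/
def nx (m : ℕ) (F : List ℕ) (p : ℕ) : List ℕ := (List.range m).map (fun k => pv k p) ++ F

/-- the check -/
def run (m : ℕ) (base : List ℕ) : List Lv → List ℕ → Bool
  | [], F => base.all fun b => elemN b F
  | s :: l, F => and (and (vOk n R pv F s) (Nat.beq (cnt n (cand R pv s)) s.n)) (run m base l (nx pv m F s.p))

end

variable {n : ℕ} {R : ℕ → ℕ → ℕ} {pv : ℕ → ℕ → ℕ} {x : Perm (Fin n)}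

/-- `c` preserves the colours and commutes with `x` -/
structure Good (R : ℕ → ℕ → ℕ) (x c : Perm (Fin n)) : Prop where
  inv : ∀ i j : Fin n, R (c i) (c j) = R i j
  comm : c * x = x * c

/-- `c` fixes `f` -/
def Fx (c : Perm (Fin n)) (f : ℕ) : Prop := ∃ h : f < n, c ⟨f, h⟩ = ⟨f, h⟩

/-- `pv k` is the `k`-th power of `x` -/
def Pv (x : Perm (Fin n)) (pv : ℕ → ℕ → ℕ) : Prop := ∀ (k : ℕ) (i : Fin n), pv k i = ((x ^ k) i : Fin n)

theorem Good.pow {c : Perm (Fin n)} (h : Good R x c) (hp : Pv x pv) (k : ℕ) (i : Fin n) :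
    pv k (c i) = (c ((x ^ k) i) : Fin n) := by
  rw [hp, ← Perm.mul_apply, ← Perm.mul_apply, ((show Commute c x from h.comm).pow_right k).eq]

theorem tt_inv {c : Perm (Fin n)} (h : Good R x c) (hp : Pv x pv) {F : List ℕ} (hF : ∀ f ∈ F, Fx c f)
    {fs ks : List (ℕ × ℕ)} (hfs : (fs.all fun f => elemN f.1 F) = true) (y : Fin n) :
    tt R pv fs ks (c y) = tt R pv fs ks y := by
  unfold tt
  rw [List.all_eq_true] at hfs
  congr 1
  · refine all_congr' fun f hf => ?_
    obtain ⟨hlt, hfx⟩ := hF f.1 (of_elemN (hfs f hf))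
    have h2 := h.inv ⟨f.1, hlt⟩ y
    rw [hfx] at h2
    have h3 : R f.1 (c y) = R f.1 y := h2
    rw [h3]
  · refine all_congr' fun k _ => ?_
    rw [h.pow hp, h.inv, ← hp]

theorem cz_filt (P : ℕ → Bool) (y : ℕ) (m : ℕ) :
    cz R y (filt m P) = cnt m fun z => and (P z) (Nat.beq (R y z) 1) := by
  induction m with
  | zero => rfl
  | succ m ih =>
    rw [filt_succ, cnt_succ]
    rcases hP : P m with _ | _
    · rw [cond_false, ih]; rfl
    · rw [cond_true, ← ih]; rfl

theorem cz_inv {c : Perm (Fin n)} (h : Good R x c) (hp : Pv x pv) {F : List ℕ} (hF : ∀ f ∈ F, Fx c f)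
    {t : Ct} (ht : and (t.fs.all fun f => elemN f.1 F) (beqL (filt n (tt R pv t.fs t.ks)) t.Z) = true) (y : Fin n) :
    cz R (c y) t.Z = cz R y t.Z := by
  rw [Bool.and_eq_true] at ht
  rw [← eq_of_beqL ht.2, cz_filt, cz_filt]
  symm
  refine cnt_perm c fun z => ?_
  rw [tt_inv h hp hF ht.1, h.inv]

theorem cand_inv {c : Perm (Fin n)} (h : Good R x c) (hp : Pv x pv) {F : List ℕ} (hF : ∀ f ∈ F, Fx c f)
    {s : Lv} (hs : vOk n R pv F s = true) (y : Fin n) : cand R pv s (c y) = cand R pv s y := by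
  unfold vOk at hs
  rw [Bool.and_eq_true, Bool.and_eq_true, Bool.and_eq_true] at hs
  obtain ⟨-, h1, h2, -⟩ := hs
  rw [List.all_eq_true] at h2
  unfold cand
  rw [tt_inv h hp hF h1]
  congr 1
  exact all_congr' fun t ht => by rw [cz_inv h hp hF (h2 t ht)]

theorem pv_comm (_h : Pv x pv) {c : Perm (Fin n)} (hc : Good R x c) {p : Fin n} (hp : c p = p) (k : ℕ) :
    c ((x ^ k) p) = (x ^ k) p := by
  rw [← Perm.mul_apply, ((show Commute c x from hc.comm).pow_right k).eq, Perm.mul_apply, hp]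

theorem fx_nx {m : ℕ} {c : Perm (Fin n)} (h : Good R x c) (hpv : Pv x pv) {F : List ℕ}
    (hF : ∀ f ∈ F, Fx c f) {p : Fin n} (hp : c p = p) : ∀ f ∈ nx pv m F p, Fx c f := by
  intro f hf
  rcases List.mem_append.1 hf with hm | hm
  · obtain ⟨k, -, rfl⟩ := List.mem_map.1 hm
    refine ⟨by rw [hpv]; exact ((x ^ k) p).2, ?_⟩
    have e : (⟨pv k p, by rw [hpv]; exact ((x ^ k) p).2⟩ : Fin n) = (x ^ k) p := Fin.ext (hpv _ _)
    rw [e, pv_comm hpv h hp]
  · exact hF f hm

/-- the stabilizer of a point -/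
def st (C : Subgroup (Perm (Fin n))) (p : Fin n) : Subgroup (Perm (Fin n)) where
  carrier := {c | c ∈ C ∧ c p = p}
  one_mem' := ⟨one_mem _, rfl⟩
  mul_mem' := fun {a b} ha hb => ⟨mul_mem ha.1 hb.1, by rw [Perm.mul_apply, hb.2, ha.2]⟩
  inv_mem' := fun {a} ha => ⟨inv_mem ha.1, by rw [Perm.inv_eq_iff_eq, ha.2]⟩

theorem mem_st {C : Subgroup (Perm (Fin n))} {p : Fin n} {c : Perm (Fin n)} : c ∈ st C p ↔ c ∈ C ∧ c p = p := Iff.rfl

theorem orb (C : Subgroup (Perm (Fin n))) (p : Fin n) (S : Finset ℕ) (hS : ∀ c ∈ C, (c p : ℕ) ∈ S) {m : ℕ}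
    (hm : Nat.card ↥(st C p) ≤ m) : Nat.card C ≤ S.card * m := by
  have h2 : MulAction.stabilizer C p = (st C p).subgroupOf C := by
    ext c
    rw [MulAction.mem_stabilizer_iff, Subgroup.mem_subgroupOf, mem_st]
    exact ⟨fun h => ⟨c.2, h⟩, fun h => h.2⟩
  have h3 : Nat.card (MulAction.stabilizer C p) = Nat.card ↥(st C p) := by
    rw [h2]
    exact Nat.card_congr (Subgroup.subgroupOfEquivOfLe fun c hc => (mem_st.1 hc).1).toEquiv
  have h1 := (MulAction.stabilizer C p).card_mul_index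
  rw [MulAction.index_stabilizer, h3] at h1
  have h4 : (MulAction.orbit C p).ncard = ((fun y : Fin n => (y : ℕ)) '' MulAction.orbit C p).ncard :=
    (Set.ncard_image_of_injective _ fun y z h => Fin.ext h).symm
  have h5 : (MulAction.orbit C p).ncard ≤ S.card := by
    rw [h4, ← Set.ncard_coe_finset]
    apply Set.ncard_le_ncard _ S.finite_toSet
    rintro _ ⟨_, ⟨g, rfl⟩, rfl⟩
    exact hS g g.2
  rw [← h1, mul_comm]
  exact Nat.mul_le_mul h5 hm

/-- **The bound.** -/
theorem le_of_run {m : ℕ} {base : List ℕ} (hpv : Pv x pv) : ∀ (l : List Lv) (F : List ℕ) (C : Subgroup (Perm (Fin n))),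
    (∀ c ∈ C, Good R x c) → (∀ c ∈ C, (∀ b ∈ base, Fx c b) → c = 1) → (∀ c ∈ C, ∀ f ∈ F, Fx c f) →
      run n R pv m base l F = true → Nat.card C ≤ bd l
  | [], F, C, hC, hb, hF, h => by
    have h1 : (base.all fun b => elemN b F) = true := h
    rw [List.all_eq_true] at h1
    show Nat.card C ≤ 1
    rw [Subgroup.card_le_one_iff_eq_bot, eq_bot_iff_forall]
    intro c hc
    exact hb c hc fun b hbm => hF c hc b (of_elemN (h1 b hbm))
  | s :: l, F, C, hC, hb, hF, h => by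
    have h1 : and (and (vOk n R pv F s) (Nat.beq (cnt n (cand R pv s)) s.n)) (run n R pv m base l (nx pv m F s.p))
      = true := h
    rw [Bool.and_eq_true, Bool.and_eq_true] at h1
    obtain ⟨⟨hv, hn⟩, h2⟩ := h1
    have hv' := hv
    unfold vOk at hv'
    rw [Bool.and_eq_true, Bool.and_eq_true, Bool.and_eq_true, Nat.blt_eq] at hv'
    obtain ⟨hp, -, -, hcp⟩ := hv'
    show Nat.card C ≤ s.n * bd l
    rw [← Nat.eq_of_beq_eq_true hn, ← card_filter]
    apply orb C ⟨s.p, hp⟩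
    · intro c hc
      rw [Finset.mem_filter, Finset.mem_range]
      exact ⟨(c _).2, (cand_inv (hC c hc) hpv (hF c hc) hv ⟨s.p, hp⟩).trans hcp⟩
    · refine le_of_run hpv l (nx pv m F s.p) _ (fun c hc => hC c (mem_st.1 hc).1)
        (fun c hc => hb c (mem_st.1 hc).1) (fun c hc => ?_) h2
      exact fx_nx (p := ⟨s.p, hp⟩) (hC c (mem_st.1 hc).1) hpv (hF c (mem_st.1 hc).1) (mem_st.1 hc).2

/-! ### A universal base -/

/-- `y` is the only point with its colours to the points `fs` -/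
def uOk (n : ℕ) (R : ℕ → ℕ → ℕ) (fs : List ℕ) (y : ℕ) : Bool :=
  Nat.beq (cnt n fun z => fs.all fun f => Nat.beq (R f z) (R f y)) 1

/-- the chain of unique points -/
def uRun (n : ℕ) (R : ℕ → ℕ → ℕ) : List (ℕ × List ℕ) → List ℕ → List ℕ → Bool
  | [], D, F => D.all fun d => elemN d F
  | s :: l, D, F => and (and (Nat.blt s.1 n) (and (s.2.all fun f => elemN f F) (uOk n R s.2 s.1))) (uRun n R l D (s.1 :: F))

theorem eq_of_uOk {fs : List ℕ} {y : Fin n} (h : uOk n R fs y = true) {z : Fin n}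
    (hz : ∀ f ∈ fs, R f z = R f y) : z = y := by
  have h1 := Nat.eq_of_beq_eq_true h
  rw [cnt_fin, Finset.card_eq_one] at h1
  obtain ⟨a, ha⟩ := h1
  have m1 : z ∈ (Finset.univ.filter fun z : Fin n => (fs.all fun f => Nat.beq (R f z) (R f y)) = true) := by
    rw [Finset.mem_filter, List.all_eq_true]
    exact ⟨Finset.mem_univ _, fun f hf => by rw [hz f hf]; exact Nat.beq_refl _⟩
  have m2 : y ∈ (Finset.univ.filter fun z : Fin n => (fs.all fun f => Nat.beq (R f z) (R f y)) = true) := by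
    rw [Finset.mem_filter, List.all_eq_true]
    exact ⟨Finset.mem_univ _, fun f hf => Nat.beq_refl _⟩
  rw [ha, Finset.mem_singleton] at m1 m2
  rw [m1, m2]

theorem fx_of_uRun {c : Perm (Fin n)} (hc : ∀ i j : Fin n, R (c i) (c j) = R i j) {D : List ℕ} :
    ∀ (l : List (ℕ × List ℕ)) (F : List ℕ), (∀ f ∈ F, Fx c f) → uRun n R l D F = true → ∀ d ∈ D, Fx c d
  | [], F, hF, h => by
    have h1 : (D.all fun d => elemN d F) = true := h
    rw [List.all_eq_true] at h1
    exact fun d hd => hF d (of_elemN (h1 d hd))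
  | s :: l, F, hF, h => by
    have h1 : and (and (Nat.blt s.1 n) (and (s.2.all fun f => elemN f F) (uOk n R s.2 s.1))) (uRun n R l D (s.1 :: F))
      = true := h
    rw [Bool.and_eq_true, Bool.and_eq_true, Bool.and_eq_true, Nat.blt_eq, List.all_eq_true] at h1
    obtain ⟨⟨hp, hf, hu⟩, h2⟩ := h1
    refine fx_of_uRun hc l _ (fun f hfm => ?_) h2
    rcases List.mem_cons.1 hfm with rfl | hfm
    · refine ⟨hp, eq_of_uOk (y := ⟨s.1, hp⟩) hu fun f hff => ?_⟩
      obtain ⟨hlt, hfx⟩ := hF f (of_elemN (hf f hff))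
      have h3 := hc ⟨f, hlt⟩ ⟨s.1, hp⟩
      rw [hfx] at h3
      exact h3
    · exact hF f hfm

/-- the code of a point -/
def code (R : ℕ → ℕ → ℕ) (D : List ℕ) (y : ℕ) : ℕ := D.foldr (fun d a => Nat.add (Nat.mul 3 a) (R d y)) 0

theorem code_congr {D : List ℕ} {y z : ℕ} (h : ∀ d ∈ D, R d y = R d z) : code R D y = code R D z := by
  induction D with
  | nil => rfl
  | cons d D ih =>
    show Nat.add (Nat.mul 3 (code R D y)) (R d y) = Nat.add (Nat.mul 3 (code R D z)) (R d z)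
    rw [h d List.mem_cons_self, ih fun d hd => h d (List.mem_cons_of_mem _ hd)]

/-- all entries are different -/
def nodupB : List ℕ → Bool
  | [] => true
  | a :: l => and (bif elemN a l then false else true) (nodupB l)

theorem nodup_of_nodupB : ∀ {l : List ℕ}, nodupB l = true → l.Nodup
  | [], _ => List.nodup_nil
  | a :: l, h => by
    rw [nodupB, Bool.and_eq_true] at h
    refine List.nodup_cons.2 ⟨fun ha => ?_, nodup_of_nodupB h.2⟩
    have h1 : elemN a l = true := by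
      unfold elemN
      rw [List.any_eq_true]
      exact ⟨a, ha, Nat.beq_refl a⟩
    have h2 := h.1
    rw [h1] at h2
    exact absurd h2 (by decide)

theorem eq_one_of_base {c : Perm (Fin n)} (hc : ∀ i j : Fin n, R (c i) (c j) = R i j) {D base lit : List ℕ}
    {l : List (ℕ × List ℕ)} (hu : uRun n R l D base = true) (hb : ∀ b ∈ base, Fx c b)
    (he : (List.range n).map (code R D) = lit) (hl : nodupB lit = true) : c = 1 := by
  have hD := fx_of_uRun hc l base hb hu
  refine Equiv.ext fun y => ?_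
  have h1 : code R D (c y) = code R D y := by
    refine code_congr fun d hd => ?_
    obtain ⟨hlt, hfx⟩ := hD d hd
    have h3 := hc ⟨d, hlt⟩ y
    rw [hfx] at h3
    exact h3
  have h2 : lit.Nodup := nodup_of_nodupB hl
  rw [← he, List.nodup_map_iff_inj_on List.nodup_range] at h2
  exact Fin.ext (h2 _ (List.mem_range.2 (c y).2) _ (List.mem_range.2 y.2) h1)

/-! ### Orders and fixed points -/

/-- the order of `x` is `N` -/
def oOk (n : ℕ) (pv : ℕ → ℕ → ℕ) (N : ℕ) (ps : List ℕ) : Bool :=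
  and (Nat.beq (cnt n fun i => Nat.beq (pv N i) i) n) (ps.all fun p => Nat.blt (cnt n fun i => Nat.beq (pv (N / p) i) i) n)

/-- the number of fixed points -/
def fixN (g : Perm (Fin n)) : ℕ := (Finset.univ.filter fun i : Fin n => g i = i).card

theorem fixN_pow (hpv : Pv x pv) (k : ℕ) : fixN (x ^ k) = cnt n fun i => Nat.beq (pv k i) i := by
  rw [cnt_fin, fixN]
  congr 1
  refine Finset.filter_congr fun i _ => ?_
  rw [hpv]
  constructor
  · intro h
    rw [h]
    exact Nat.beq_refl _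
  · intro h
    exact Fin.ext (Nat.eq_of_beq_eq_true h)

theorem fixN_conj (c g : Perm (Fin n)) : fixN (c * g * c⁻¹) = fixN g := by
  unfold fixN
  symm
  refine Finset.card_bij (fun z _ => c z) (fun z hz => ?_) (fun a _ b _ e => c.injective e) fun z hz => ?_
  · rw [Finset.mem_filter] at hz ⊢
    refine ⟨Finset.mem_univ _, ?_⟩
    have e : c⁻¹ (c z) = z := c.symm_apply_apply z
    rw [Perm.mul_apply, Perm.mul_apply, e, hz.2]
  · rw [Finset.mem_filter] at hz
    refine ⟨c⁻¹ z, ?_, c.apply_symm_apply z⟩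
    rw [Finset.mem_filter]
    refine ⟨Finset.mem_univ _, ?_⟩
    have h := hz.2
    rw [Perm.mul_apply, Perm.mul_apply] at h
    rw [Perm.eq_inv_iff_eq]
    exact h

theorem fixN_eq_n {g : Perm (Fin n)} : fixN g = n ↔ g = 1 := by
  unfold fixN
  constructor
  · intro h
    refine Equiv.ext fun i => ?_
    have h1 : (Finset.univ.filter fun i : Fin n => g i = i) = Finset.univ := by
      apply Finset.eq_univ_of_card
      rw [h, Fintype.card_fin]
    have h2 : i ∈ (Finset.univ.filter fun i : Fin n => g i = i) := by rw [h1]; exact Finset.mem_univ i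
    rw [Finset.mem_filter] at h2
    exact h2.2
  · rintro rfl
    simp

theorem orderOf_eq (hpv : Pv x pv) {N : ℕ} {ps : List ℕ} (hps : ∀ p ∈ ps, p.Prime) (hd : N ∣ ps.prod ^ 6)
    (h : oOk n pv N ps = true) (hN : 0 < N) : orderOf x = N := by
  unfold oOk at h
  rw [Bool.and_eq_true, List.all_eq_true] at h
  apply orderOf_eq_of_pow_and_pow_div_prime hN
  · rw [← fixN_eq_n, fixN_pow hpv]
    exact Nat.eq_of_beq_eq_true h.1
  · intro p hp hpd hx
    have h1 : p ∣ ps.prod := hp.dvd_of_dvd_pow (hpd.trans hd)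
    obtain ⟨q, hq, hpq⟩ := (hp.prime.dvd_prod_iff).1 h1
    rw [(Nat.prime_dvd_prime_iff_eq hp (hps q hq)).1 hpq] at hx
    have h2 := h.2 q hq
    rw [Nat.blt_eq, ← fixN_pow hpv, fixN_eq_n.2 hx] at h2
    exact absurd h2 (lt_irrefl _)

/-! ### Class lists of a normal subgroup -/

section Classes

variable {G : Type*} [Group G] [Finite G]

omit [Finite G] in
theorem card_class (x : G) : Nat.card {y : G // IsConj x y} * Nat.card ↥(centralizer ({x} : Set G)) = Nat.card G := by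
  have h1 : Nat.card {y : G // IsConj x y} = Nat.card (MulAction.orbit (ConjAct G) x) := by
    refine Nat.card_congr (Equiv.subtypeEquivRight fun y => ?_)
    rw [ConjAct.mem_orbit_conjAct]
    exact ⟨fun h => h.symm, fun h => h.symm⟩
  have h2 : Nat.card ↥(centralizer ({x} : Set G)) = Nat.card (MulAction.stabilizer (ConjAct G) x) := by
    rw [ConjAct.stabilizer_eq_centralizer]
    rfl
  have h3 := Nat.card_congr (MulAction.orbitProdStabilizerEquivGroup (ConjAct G) x)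
  rw [Nat.card_prod] at h3
  rw [h1, h2, h3]
  rfl

theorem card_union [Fintype G] [DecidableEq G] (L : List (G × ℕ)) : (∀ p ∈ L, Nat.card ↥(centralizer ({p.1} : Set G)) ≤ p.2) →
    (L.map fun p => ConjClasses.mk p.1).Nodup →
    ∃ U : Finset G, (∀ y, y ∈ U ↔ ∃ p ∈ L, IsConj p.1 y) ∧ (L.map fun p => Nat.card G / p.2).sum ≤ U.card := by
  classical
  induction L with
  | nil => intro _ _; exact ⟨∅, fun y => by simp, by simp⟩
  | cons q L ih =>
    intro hc hd
    rw [List.map_cons, List.nodup_cons] at hd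
    obtain ⟨U, hU, h1⟩ := ih (fun p hp => hc p (List.mem_cons_of_mem _ hp)) hd.2
    have hdis : Disjoint (Finset.univ.filter fun y : G => IsConj q.1 y) U := by
      rw [Finset.disjoint_left]
      intro y hy hy'
      rw [Finset.mem_filter] at hy
      obtain ⟨p, hp, hpy⟩ := (hU y).1 hy'
      exact hd.1 (List.mem_map.2 ⟨p, hp, ConjClasses.mk_eq_mk_iff_isConj.2 (hpy.trans hy.2.symm)⟩)
    refine ⟨(Finset.univ.filter fun y : G => IsConj q.1 y) ∪ U, fun y => ?_, ?_⟩
    · simp only [Finset.mem_filter, Finset.mem_univ, true_and, Finset.mem_union, List.mem_cons, exists_eq_or_imp, hU]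
    have hq : Nat.card G / q.2 ≤ (Finset.univ.filter fun y : G => IsConj q.1 y).card := by
      have h2 := card_class q.1
      have h3 : Nat.card {y : G // IsConj q.1 y} = (Finset.univ.filter fun y : G => IsConj q.1 y).card := by
        rw [Nat.card_eq_fintype_card, Fintype.card_subtype]
      rw [← h3]
      have h4 := hc q List.mem_cons_self
      have h5 : 0 < q.2 := lt_of_lt_of_le Nat.card_pos h4
      apply Nat.div_le_of_le_mul
      rw [← h2, mul_comm q.2]
      exact Nat.mul_le_mul_left _ h4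
    rw [List.map_cons, List.sum_cons, Finset.card_union_of_disjoint hdis]
    exact Nat.add_le_add hq h1

/-- **The class list criterion**, for a normal subgroup. -/
theorem complete (N : Subgroup G) [hN : N.Normal] (L : List (G × ℕ)) (hL : ∀ p ∈ L, p.1 ∈ N)
    (hc : ∀ p ∈ L, Nat.card ↥(centralizer ({p.1} : Set G)) ≤ p.2) (hd : (L.map fun p => ConjClasses.mk p.1).Nodup)
    (hs : Nat.card N ≤ (L.map fun p => Nat.card G / p.2).sum) {g : G} (hg : g ∈ N) : ∃ p ∈ L, IsConj p.1 g := by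
  classical
  have := Fintype.ofFinite G
  obtain ⟨U, hU, h1⟩ := card_union L hc hd
  have h2 : U = Finset.univ.filter fun y => y ∈ N := by
    apply Finset.eq_of_subset_of_card_le
    · intro y hy
      obtain ⟨p, hp, hpy⟩ := (hU y).1 hy
      rw [Finset.mem_filter]
      refine ⟨Finset.mem_univ _, ?_⟩
      obtain ⟨c, rfl⟩ := isConj_iff.1 hpy
      exact hN.conj_mem _ (hL p hp) c
    · refine le_trans (le_of_eq ?_) (hs.trans h1)
      rw [← Fintype.card_subtype, ← Nat.card_eq_fintype_card]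
  rw [← hU, h2, Finset.mem_filter]
  exact ⟨Finset.mem_univ _, hg⟩

end Classes

end Cfsg.Agent.H235.Ore.Eng

private theorem dce_356d1503776a : _root_.True := by
  try have : _root_.True := by simp only [_root_.Cfsg.Agent.H235.Ore.Eng.fixN.eq_1]
  try have : _root_.True := by simp only [_root_.Cfsg.Agent.H235.Ore.Eng.nodupB.eq_def]
  try have : _root_.True := by simp only [_root_.Cfsg.Agent.H235.Ore.Eng.beqL._sparseCasesOn_2.else_eq]
  try have : _root_.True := by simp only [_root_.Cfsg.Agent.H235.Ore.Eng.beqL.eq_2]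
  try have : _root_.True := by simp only [_root_.Cfsg.Agent.H235.Ore.Eng.beqL._sparseCasesOn_1.else_eq]
  try have : _root_.True := by simp only [_root_.Cfsg.Agent.H235.Ore.Eng.beqL.eq_1]
  try have : _root_.True := by simp only [_root_.Cfsg.Agent.H235.Ore.Eng.beqL.eq_def]
  try have : _root_.True := by simp only [_root_.Cfsg.Agent.H235.Ore.Eng.nodupB.eq_1]
  try have : _root_.True := by simp only [_root_.Cfsg.Agent.H235.Ore.Eng.beqL.eq_3]
  try have : _root_.True := by simp only [_root_.Cfsg.Agent.H235.Ore.Eng.nodupB.eq_2]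
  exact _root_.True.intro
end

-- part: H235/Ore/McLM
section
set_option linter.all false
open scoped Cfsg.Agent.FastGrp

/-!
# The automorphism group of the McLaughlin graph, as far as we need it (helper235)

`M2` : the group generated by `K0 = McL` and an outer involution `T`; all its elements preserve the graph; an element
of `M2` is determined by the images of five points.
-/

set_option autoImplicit false
set_option maxRecDepth 100000

namespace Cfsg.Agent.H235.Ore.McLM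

open Cfsg.Agent.SporadicA.PermTab Cfsg.Agent.McLType.X275 Cfsg.Agent.McLType.Gens Cfsg.Agent.H904.McLCent
open Cfsg.Agent.H235.Ore.Eng Subgroup Equiv

/-- colours: `2` equal, `1` adjacent, `0` not adjacent -/
def R (i j : ℕ) : ℕ := bif Nat.beq i j then 2 else bitM 275 adjM i j

theorem R_inv {c : Perm (Fin 275)} (hc : c ∈ autG 275 adjM) (i j : Fin 275) : R (c i) (c j) = R i j := by
  unfold R
  rw [mem_autG.1 hc i j]
  rcases h : Nat.beq (i : ℕ) j with _ | _
  · have h1 : Nat.beq (c i : ℕ) (c j) = false := by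
      rcases h2 : Nat.beq (c i : ℕ) (c j) with _ | _
      · rfl
      · exfalso
        have h3 := c.injective (Fin.ext (Nat.eq_of_beq_eq_true h2))
        rw [h3, Nat.beq_refl] at h
        exact absurd h (by decide)
    rw [h1]
  · rw [Fin.ext (Nat.eq_of_beq_eq_true h), Nat.beq_refl]

/-- the base -/
def base : List ℕ := [77, 267, 199, 7, 32]
/-- a resolving set -/
def D : List ℕ := [240, 52, 271, 0, 256, 264, 187, 268, 4, 191, 222, 164, 88, 1]
def steps : List (ℕ × List ℕ) := [(13, [267, 32, 77, 199, 7]), (150, [267, 32, 77, 199, 7]), (260, [199, 7, 77, 32, 267]), (52, [77, 267, 13, 199, 260, 7]), (187, [77, 267, 199, 7, 260, 13]), (222, [77, 267, 13, 260, 150]), (240, [77, 267, 32, 13, 260]), (1, [77, 240, 199, 7, 260]), (4, [32, 260, 77, 52, 187, 267, 7]), (191, [7, 150, 77, 52, 187, 240]), (256, [7, 150, 77, 52, 13, 240]), (264, [7, 52, 77, 187, 13, 222, 267, 199]), (271, [77, 52, 7, 13, 150, 32]), (0, [267, 222, 256, 7, 52, 77]),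 (88, [7, 52, 187, 1, 267]), (164, [77, 52, 32, 191, 260]), (268, [13, 52, 88, 77, 264, 199, 260])]
def lit : List ℕ := [259102, 3210850, 62056, 711027, 272251, 767971, 120, 610509, 28444, 790570, 258321, 728605, 59302, 258888, 2925, 81985, 61327, 532531, 246007, 2431, 3241, 1655562, 538083, 179443, 1851259, 2365200, 6807, 81273, 200080, 553428, 81982, 20503, 2133306, 1853208, 62325, 79794, 1853371, 22842, 200070, 87805, 180316, 731520, 717426, 2302920, 258157, 2364508, 599490, 2363022, 259129, 730783, 238707, 531792, 711844, 22122, 735192, 1603908, 2305918, 533881, 593010, 709650, 551379, 789841, 258403, 1656543, 2191494, 21954, 540543, 62290, 8757, 22960, 560934, 2126115, 533745, 538336, 711135, 2311902, 2384892, 1831261, 258151, 60024, 78736, 197569, 81901, 85305, 0, 19957, 9478, 1614738, 1144534, 27084, 256933, 1659963, 1654210, 531451, 256135, 767754, 715393, 196833, 2217, 177958, 1833436, 238627, 2309502, 65722, 1659936, 258076, 256942,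 1833444, 729252, 7299, 199864, 2389024, 6598, 1673823, 26247, 2303748, 1794070, 8775, 1778032, 19792, 2381886, 81729, 27, 1654345, 538353, 205578, 259147, 1859925, 27217, 1837809, 1772469, 2132352, 1850313, 538014, 61276, 79555, 4, 6565, 2125794, 531552, 199993, 67800, 1830522, 2191621, 59404, 22611, 538120, 1673068, 982, 2185551, 258886, 86278, 19722, 2382735, 552178, 21871, 1833679, 2329158, 26490, 78843, 3024, 81165, 1595082, 1660746, 360885, 1682535, 1676083, 1603101, 1601614, 26356, 538272, 1601643, 1674030, 179344, 728392, 2368533, 770887, 59061, 2383842, 715159, 2362942, 538284, 710775, 2303157, 81166, 708940, 2362042, 539490, 8751, 2133057, 531684, 2171718, 2184924, 1839271, 540298, 1833546, 6591, 794208, 2309583, 1594354, 2362233, 728361, 531720, 737272, 557694, 2323576, 2302947, 22609, 538848, 2132364, 2126610, 2312424, 259047, 1662859, 87600, 1798455, 1831366, 2132361, 2368773, 610534, 2134512, 2296, 656127, 1595052, 538245,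 206389, 1793370, 730809, 197074, 2132353, 2309580, 1600914, 2152119, 9720, 1774386, 2128950, 2310444, 538110, 2132325, 20766, 2132357, 28461, 9019, 1853443, 2370816, 1655586, 2323431, 2310553, 2152281, 1679619, 6669, 2192454, 1660206, 557715, 1850935, 757, 1601049, 2310201, 26248, 2302939, 183738, 1601644, 65611, 1850934, 1601400, 19713, 2191404, 1653402, 2136729, 1856794, 1660692, 1600932, 1621323, 2309499, 2132355]

theorem steps_ok : uRun 275 R steps D base = true := by decide +kernel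
theorem lit_eq : (List.range 275).map (code R D) = lit := by decide +kernel
theorem lit_ok : Eng.nodupB lit = true := by decide +kernel

theorem eq_one {c : Perm (Fin 275)} (hc : c ∈ autG 275 adjM) (hb : ∀ b ∈ base, Fx c b) : c = 1 :=
  eq_one_of_base (R_inv hc) steps_ok hb lit_eq lit_ok

theorem eq_of_base {g h : Perm (Fin 275)} (hg : g ∈ autG 275 adjM) (hh : h ∈ autG 275 adjM)
    (hb : ∀ b ∈ base, ∀ hlt : b < 275, (g ⟨b, hlt⟩ : ℕ) = h ⟨b, hlt⟩) : g = h := by
  have h1 : h⁻¹ * g = 1 := by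
    refine eq_one (mul_mem (inv_mem hh) hg) fun b hbm => ?_
    have hlt : b < 275 := (show ∀ b ∈ base, b < 275 by decide) b hbm
    refine ⟨hlt, ?_⟩
    rw [Perm.mul_apply, Fin.ext (hb b hbm hlt)]
    exact h.symm_apply_apply _
  exact (inv_mul_eq_one.1 h1).symm

/-! ### Words -/

/-- the table of a letter -/
def tb (k : ℕ) : ℕ := e7.getD (Nat.mod k 7) 0
/-- the action of a word -/
def act (w : List ℕ) (i : ℕ) : ℕ := w.foldr (fun k j => lk (tb k) j) i
/-- a letter -/
def sg (k : ℕ) : Perm (Fin 275) := σ ⟨Nat.mod k 7, Nat.mod_lt _ (by norm_num)⟩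
/-- the permutation of a word -/
def wd (w : List ℕ) : Perm (Fin 275) := (w.map sg).prod
/-- the action of the powers of a word -/
def pw (X : List ℕ) (k i : ℕ) : ℕ := Nat.rec i (fun _ j => act X j) k

theorem sg_mem (k : ℕ) : sg k ∈ K0 := subset_closure ⟨_, rfl⟩

theorem wd_mem (w : List ℕ) : wd w ∈ K0 := by
  refine list_prod_mem fun g hg => ?_
  obtain ⟨k, -, rfl⟩ := List.mem_map.1 hg
  exact sg_mem k

theorem wd_nil : wd [] = 1 := rfl
theorem wd_cons (k : ℕ) (w : List ℕ) : wd (k :: w) = sg k * wd w := by unfold wd; rw [List.map_cons, List.prod_cons]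
theorem wd_append (v w : List ℕ) : wd (v ++ w) = wd v * wd w := by unfold wd; rw [List.map_append, List.prod_append]

theorem act_eq (w : List ℕ) (i : Fin 275) : act w i = (wd w i : ℕ) := by
  induction w with
  | nil => rfl
  | cons k w ih =>
    rw [wd_cons, Perm.mul_apply]
    show lk (tb k) (act w i) = _
    rw [ih]
    exact (e_spec ⟨Nat.mod k 7, Nat.mod_lt _ (by norm_num)⟩ (wd w i)).symm

theorem pv_pw (X : List ℕ) : Pv (wd X) (pw X) := by
  intro k i
  induction k with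
  | zero => rfl
  | succ k ih =>
    rw [pow_succ', Perm.mul_apply, ← act_eq, ← ih]
    rfl

theorem sg_sq (k : ℕ) : sg k * sg k = 1 := by
  have h : ∀ k : Fin 7, ∀ b ∈ base, lk (e7.getD k 0) (lk (e7.getD k 0) b) = b := by decide +kernel
  refine eq_of_base (mul_mem (K0_le (sg_mem k)) (K0_le (sg_mem k))) (one_mem _) fun b hb hlt => ?_
  rw [Perm.mul_apply]
  have h1 := h ⟨Nat.mod k 7, Nat.mod_lt _ (by norm_num)⟩ b hb
  have e1 := e_spec ⟨Nat.mod k 7, Nat.mod_lt _ (by norm_num)⟩ ⟨b, hlt⟩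
  have e2 := e_spec ⟨Nat.mod k 7, Nat.mod_lt _ (by norm_num)⟩ (sg k ⟨b, hlt⟩)
  exact e2.trans ((congrArg _ e1).trans h1)

theorem wd_reverse (w : List ℕ) : wd w.reverse = (wd w)⁻¹ := by
  induction w with
  | nil => rw [List.reverse_nil, wd_nil, inv_one]
  | cons k w ih =>
    rw [List.reverse_cons, wd_append, ih, wd_cons k [], wd_nil, mul_one, wd_cons k w, mul_inv_rev]
    congr 1
    exact (inv_eq_of_mul_eq_one_left (sg_sq k)).symm

/-- equality of words on the base -/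
def chkB (X Y : List ℕ) : Bool := base.all fun b => Nat.beq (act X b) (act Y b)

theorem eq_of_chkB {X Y : List ℕ} (h : chkB X Y = true) : wd X = wd Y := by
  unfold chkB at h
  rw [List.all_eq_true] at h
  refine eq_of_base (K0_le (wd_mem X)) (K0_le (wd_mem Y)) fun b hb hlt => ?_
  rw [← act_eq, ← act_eq]
  exact Nat.eq_of_beq_eq_true (h b hb)

/-! ### The outer involution -/

def tT : ℕ := 0x35c5984402412c608490000201c0cb07c1d8448e10582bc5e0d50502b4150a80343b06d0401881281207d11c204698460763641b0fa01c3505588512e2a4380d801a2588206d128340288530563e4770e4224274800ea1e20f0660de19c33c588d121007c64830168314630f71181988680b1000bc5a9010de1783184d10e1b85e8c72222c8668612042b87f03f1d20dc730fc14a0285382013c1141082603828c6b0580d60182084c1ce3881a8df1261c8488180d03cc3f8c305203c8286a16e1d07403d05c10c790bf11a05c7a0160180d00181000a4182b0860022481c8e51762d8700481362203488f0c030832065172024580670622e82e81304e0c82109c0741d40101e1b80546e82d0281385c09821c3d88606c0463c0511101041644c8f815841c420d21de15c389091543b44a87a0221682f8c817c20c281031b63f4458ff0b6280110f508e094508a41941500e89f0323ec0d8900fc1f02904f0b843c198781143ac7187b1802983110a00e2683b8040f21543990b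
theorem tT_ok : chkInv 275 tT tT = true := by decide +kernel
theorem tT_rows : chkAutBlk 275 adjM tT 0 275 = true := by decide +kernel
/-- an outer automorphism of the graph -/
def T : Perm (Fin 275) := mkPerm tT tT tT_ok

theorem T_spec (i : Fin 275) : (T i : ℕ) = lk tT i := rfl

theorem T_mem : T ∈ autG 275 adjM :=
  mem_autG_of_rowsOK T_spec (rowsOK_of_chk (chkInv_lt tT_ok) (chkInv_inj tT_ok) tT_rows)

theorem T_sq : T * T = 1 := by
  have h : ∀ b ∈ base, lk tT (lk tT b) = b := by decide +kernel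
  refine eq_of_base (mul_mem T_mem T_mem) (one_mem _) fun b hb hlt => ?_
  rw [Perm.mul_apply, T_spec, T_spec]
  exact h b hb

theorem T_inv : T⁻¹ = T := inv_eq_of_mul_eq_one_left T_sq

/-- the words of the conjugates of the generators -/
def tw : List (List ℕ) := [[1, 5, 4, 6, 5, 4, 3, 6, 3, 4, 1, 5, 4, 6, 5], [5, 4, 3, 5, 6, 2, 1, 3, 6, 2, 5, 3, 4, 5], [4, 5, 6, 1, 3, 1, 6, 5, 0, 4, 0], [6, 3, 4, 2, 3, 0, 6, 3, 6, 4, 0], [1, 0, 4, 3, 6, 5, 2, 1, 2, 6, 3, 6, 2, 5, 4, 6], [3, 2, 0, 6, 4, 6, 5, 3, 6, 5, 2, 3, 6, 1, 0, 4, 3, 5], [1, 6, 4, 2, 3, 6, 2, 5, 6, 3, 2, 5, 6, 4]]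

theorem T_conj (k : Fin 7) : T * σ k * T = wd (tw.getD k []) := by
  have h : ∀ k : Fin 7, ∀ b ∈ base, lk tT (lk (e7.getD k 0) (lk tT b)) = act (tw.getD k []) b := by decide +kernel
  refine eq_of_base (mul_mem (mul_mem T_mem (σ_mem k)) T_mem) (K0_le (wd_mem _)) fun b hb hlt => ?_
  have h1 := h k b hb
  rw [Perm.mul_apply, Perm.mul_apply, T_spec, e_spec, T_spec, ← act_eq]
  exact h1

theorem T_conj_mem {g : Perm (Fin 275)} (hg : g ∈ K0) : T * g * T ∈ K0 := by
  have h : K0 ≤ K0.comap (MulAut.conj T).toMonoidHom := by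
    refine (closure_le _).2 ?_
    rintro _ ⟨k, rfl⟩
    show T * σ k * T⁻¹ ∈ K0
    rw [T_inv, T_conj]
    exact wd_mem _
  have h1 : T * g * T⁻¹ ∈ K0 := h hg
  rwa [T_inv] at h1

/-- the group `K0 ∪ K0 T` -/
def M2 : Subgroup (Perm (Fin 275)) where
  carrier := {m | m ∈ K0 ∨ m * T ∈ K0}
  one_mem' := Or.inl (one_mem _)
  mul_mem' := by
    intro a b ha hb
    rcases ha with ha | ha <;> rcases hb with hb | hb
    · exact Or.inl (mul_mem ha hb)
    · exact Or.inr (by rw [mul_assoc]; exact mul_mem ha hb)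
    · right
      have h := mul_mem ha (T_conj_mem hb)
      have e : a * T * (T * b * T) = a * b * T := by
        rw [show a * T * (T * b * T) = a * (T * T) * b * T by group, T_sq, mul_one]
      rwa [e] at h
    · left
      have h := mul_mem ha (T_conj_mem hb)
      have e : a * T * (T * (b * T) * T) = a * b := by
        rw [show a * T * (T * (b * T) * T) = a * (T * T) * b * (T * T) by group, T_sq, mul_one, mul_one]
      rwa [e] at h
  inv_mem' := by
    intro a ha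
    rcases ha with ha | ha
    · exact Or.inl (inv_mem ha)
    · right
      have h := T_conj_mem (inv_mem ha)
      rw [mul_inv_rev, T_inv] at h
      have e : T * (T * a⁻¹) * T = a⁻¹ * T := by
        rw [show T * (T * a⁻¹) * T = (T * T) * a⁻¹ * T by group, T_sq, one_mul]
      rwa [e] at h

theorem mem_M2 {m : Perm (Fin 275)} : m ∈ M2 ↔ m ∈ K0 ∨ m * T ∈ K0 := Iff.rfl

theorem K0_le_M2 : K0 ≤ M2 := fun _ h => Or.inl h

theorem T_mem_M2 : T ∈ M2 := Or.inr (by rw [T_sq]; exact one_mem _)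

theorem M2_le : M2 ≤ autG 275 adjM := by
  intro m hm
  rcases mem_M2.1 hm with h | h
  · exact K0_le h
  · have h1 := mul_mem (K0_le h) T_mem
    rwa [mul_assoc, T_sq, mul_one] at h1

theorem conj_mem {m g : Perm (Fin 275)} (hm : m ∈ M2) (hg : g ∈ K0) : m * g * m⁻¹ ∈ K0 := by
  rcases mem_M2.1 hm with h | h
  · exact mul_mem (mul_mem h hg) (inv_mem h)
  · have h1 := mul_mem (mul_mem h (T_conj_mem hg)) (inv_mem h)
    have e : m * T * (T * g * T) * (m * T)⁻¹ = m * g * m⁻¹ := by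
      rw [show m * T * (T * g * T) * (m * T)⁻¹ = m * (T * T) * g * m⁻¹ by group, T_sq, mul_one]
    rwa [e] at h1

/-- `K0` as a subgroup of `M2` -/
def K : Subgroup ↥M2 := K0.subgroupOf M2

instance K_normal : K.Normal where
  conj_mem := fun n hn g => by
    rw [K, mem_subgroupOf] at hn ⊢
    exact conj_mem g.2 hn

theorem isoK0 : Cfsg.Spor.IsoMcL ↥K0 := by
  obtain ⟨f⟩ := isoMcL_G1
  have e : G1 ≃* ψ.range := MonoidHom.ofInjective ψ_injective
  rw [← range_ψ]
  exact ⟨e.symm.trans f⟩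

theorem card_K0 : Nat.card K0 = 898128000 := card_L isoK0

theorem card_K : Nat.card K = 898128000 := by
  rw [← card_K0]
  exact Nat.card_congr (subgroupOfEquivOfLe K0_le_M2).toEquiv

/-- an element of order 11 -/
def x11 : List ℕ := [4, 6, 5, 3]
theorem o11 : orderOf (wd x11) = 11 := orderOf_eq (pv_pw _) (ps := [11]) (by norm_num) (by norm_num)
  (by decide +kernel) (by norm_num)

theorem T_comm : T * wd x11 = wd x11 * T := by
  have h : ∀ b ∈ base, lk tT (act x11 b) = act x11 (lk tT b) := by decide +kernel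
  refine eq_of_base (mul_mem T_mem (K0_le (wd_mem _))) (mul_mem (K0_le (wd_mem _)) T_mem) fun b hb hlt => ?_
  rw [Perm.mul_apply, Perm.mul_apply, T_spec, ← act_eq, ← act_eq, T_spec]
  exact h b hb

/-- the centralizer of `x11` in `K0` -/
theorem cent11 {g : Perm (Fin 275)} (hg : g ∈ K0) (hc : g * wd x11 = wd x11 * g) : g ^ 11 = 1 := by
  let x : K0 := ⟨wd x11, wd_mem _⟩
  have hx : orderOf x = 11 := by rw [← o11]; exact (Subgroup.orderOf_coe x).symm
  have h1 := (eleven isoK0 (zpowers x) (by rw [Nat.card_zpowers, hx])).1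
  have h2 : (⟨g, hg⟩ : K0) ∈ centralizer ((zpowers x : Subgroup K0) : Set K0) := by
    rw [mem_centralizer_iff]
    intro y hy
    obtain ⟨j, rfl⟩ := mem_zpowers_iff.1 hy
    have h3 : Commute (⟨g, hg⟩ : K0) x := Subtype.ext hc
    exact (h3.zpow_right j).eq.symm
  have h3 := pow_card_eq_one' (G := centralizer ((zpowers x : Subgroup K0) : Set K0)) (x := ⟨_, h2⟩)
  rw [h1] at h3
  exact congrArg (fun z : ↥(centralizer ((zpowers x : Subgroup K0) : Set K0)) => ((z : K0) : Perm (Fin 275))) h3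

theorem T_notMem : T ∉ K0 := by
  intro h
  have h1 := cent11 h T_comm
  have h2 : T ^ 11 = T := by rw [show (11 : ℕ) = 2 * 5 + 1 from rfl, pow_succ, pow_mul, pow_two, T_sq, one_pow, one_mul]
  rw [h2] at h1
  have h3 : lk tT 0 ≠ 0 := by decide +kernel
  apply h3
  have h4 := T_spec 0
  rw [h1] at h4
  exact h4.symm

theorem card_M2 : 1796256000 ≤ Nat.card M2 := by
  have h1 := card_dvd_of_le K0_le_M2
  rw [card_K0] at h1
  obtain ⟨q, hq⟩ := h1
  have h2 : q ≠ 1 := by
    rintro rfl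
    rw [mul_one, ← card_K0] at hq
    have h3 := eq_of_le_of_card_ge K0_le_M2 hq.le
    exact T_notMem (h3 ▸ T_mem_M2)
  have h4 : q ≠ 0 := by
    rintro rfl
    rw [mul_zero] at hq
    exact Nat.card_pos.ne' hq
  omega

/-- `x11` is not conjugate to its inverse in `M2` -/
theorem nc11 {m : Perm (Fin 275)} (hm : m ∈ M2) : m * wd x11 * m⁻¹ ≠ (wd x11)⁻¹ := by
  intro h
  -- reduce to `K0`
  have key : ∀ g ∈ K0, g * wd x11 * g⁻¹ ≠ (wd x11)⁻¹ := by
    intro g hg h
    let x : K0 := ⟨wd x11, wd_mem _⟩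
    let y : K0 := ⟨g, hg⟩
    have hx : orderOf x = 11 := by rw [← o11]; exact (Subgroup.orderOf_coe x).symm
    have h0 : y * x * y⁻¹ = x⁻¹ := Subtype.ext h
    have h1 := (eleven isoK0 (zpowers x) (by rw [Nat.card_zpowers, hx])).2
    have h2 : y ∈ normalizer ((zpowers x : Subgroup K0) : Set K0) := by
      rw [mem_normalizer_iff]
      have h3 : (zpowers x).map (MulAut.conj y).toMonoidHom = zpowers x := by
        rw [MonoidHom.map_zpowers]
        show zpowers (y * x * y⁻¹) = _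
        rw [h0, zpowers_inv]
      intro z
      constructor
      · intro hz
        rw [← h3]
        exact ⟨z, hz, rfl⟩
      · intro hz
        rw [← h3] at hz
        obtain ⟨w, hw, e⟩ := hz
        have e' : y * w * y⁻¹ = y * z * y⁻¹ := e
        rw [mul_left_inj, mul_right_inj] at e'
        rw [← e']
        exact hw
    have h3 := pow_card_eq_one' (G := normalizer ((zpowers x : Subgroup K0) : Set K0)) (x := ⟨_, h2⟩)
    rw [h1] at h3
    have h4 : y ^ 55 = 1 := congrArg (fun z : ↥(normalizer ((zpowers x : Subgroup K0) : Set K0)) => (z : K0)) h3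
    -- an odd power of `y` inverts `x`
    have h5 : ∀ j : ℕ, y ^ (2 * j + 1) * x * (y ^ (2 * j + 1))⁻¹ = x⁻¹ := by
      intro j
      induction j with
      | zero => rw [Nat.mul_zero, Nat.zero_add, pow_one]; exact h0
      | succ j ih =>
        have e1 : y ^ (2 * (j + 1) + 1) = y * y * y ^ (2 * j + 1) := by
          rw [show 2 * (j + 1) + 1 = 2 + (2 * j + 1) by ring, pow_add, pow_two]
        have e2 : y * x⁻¹ * y⁻¹ = x := by
          rw [← inv_inj, mul_inv_rev, mul_inv_rev, inv_inv, inv_inv, ← mul_assoc]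
          exact h0
        rw [e1, show y * y * y ^ (2 * j + 1) * x * (y * y * y ^ (2 * j + 1))⁻¹ =
          y * (y * (y ^ (2 * j + 1) * x * (y ^ (2 * j + 1))⁻¹) * y⁻¹) * y⁻¹ by group, ih, e2, h0]
    have h6 := h5 27
    rw [show 2 * 27 + 1 = 55 from rfl, h4, inv_one, mul_one, one_mul] at h6
    have h7 : x ^ 2 = 1 := by
      rw [pow_two]
      nth_rw 1 [h6]
      exact inv_mul_cancel x
    have h8 := orderOf_dvd_of_pow_eq_one h7
    rw [hx] at h8
    norm_num at h8
  rcases mem_M2.1 hm with h1 | h1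
  · exact key m h1 h
  · refine key _ h1 ?_
    rw [mul_inv_rev, T_inv, show m * T * wd x11 * (T * m⁻¹) = m * (T * wd x11) * T * m⁻¹ by group, T_comm,
      show m * (wd x11 * T) * T * m⁻¹ = m * wd x11 * (T * T) * m⁻¹ by group, T_sq, mul_one, h]

/-! ### The bounds -/

/-- a word as an element of `M2` -/
def w2 (X : List ℕ) : ↥M2 := ⟨wd X, K0_le_M2 (wd_mem X)⟩

theorem w2_mem (X : List ℕ) : w2 X ∈ K := by
  rw [K, mem_subgroupOf]
  exact wd_mem X

theorem bnd {X : List ℕ} {l : List Lv} {m : ℕ} (h : run 275 R (pw X) m base l [] = true) :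
    Nat.card ↥(centralizer ({w2 X} : Set ↥M2)) ≤ bd l := by
  have h1 : Nat.card ↥(centralizer ({w2 X} : Set ↥M2)) =
      Nat.card ↥((centralizer ({w2 X} : Set ↥M2)).map M2.subtype) :=
    Nat.card_congr ((centralizer ({w2 X} : Set ↥M2)).equivMapOfInjective M2.subtype M2.subtype_injective).toEquiv
  rw [h1]
  refine le_of_run (pv_pw X) l [] _ (fun c hc => ?_) (fun c hc hb => ?_) (fun c _ f hf => absurd hf List.not_mem_nil) h
  · obtain ⟨d, hd, rfl⟩ := hc
    refine ⟨R_inv (M2_le d.2), ?_⟩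
    exact congrArg Subtype.val (mem_centralizer_singleton_iff.1 hd)
  · obtain ⟨d, hd, rfl⟩ := hc
    exact eq_one (M2_le d.2) hb

end Cfsg.Agent.H235.Ore.McLM

private theorem dce_e2c869170768 : _root_.True := by
  try have : _root_.True := by simp only [_root_.Cfsg.Agent.H235.Ore.McLM.K.eq_1]
  exact _root_.True.intro
end

-- part: H235/Ore/McL
section
set_option linter.all false
open scoped Cfsg.Agent.FastGrp

/-!
# The classes of the McLaughlin group under `McL : 2`; commutators, products of four involutions, products of two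
elements of order prime to `6` or to `p` (helper235)
-/

set_option autoImplicit false
set_option maxRecDepth 100000

namespace Cfsg.Agent.H235.Ore.McL

open Cfsg.Agent.McLType.Gens Cfsg.Agent.H904.McLCent Cfsg.Agent.H235.Ore.Eng Cfsg.Agent.H235.Ore.McLM Subgroup Equiv
open Cfsg.Agent.H777.Ore Cfsg.Agent.H78.Pw

universe u

/-! ### Centralizers -/

def x2A : List ℕ := [0]
def l2A : List Lv := [⟨75, [], [(1, 2)], [], 35⟩,
  ⟨15, [(75, 1)], [(1, 0)], [], 96⟩,
  ⟨34, [(75, 1), (15, 0), (31, 0)], [(1, 0)], [⟨[(75, 0), (15, 0)], [(1, 2)], [238, 189, 128, 116, 69, 64, 62, 49, 0], 6⟩], 2⟩,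
  ⟨247, [(6, 1), (15, 0), (31, 0), (75, 0)], [(1, 0)], [], 12⟩,
  ⟨77, [(75, 1), (247, 0), (15, 0)], [(1, 2)], [⟨[(75, 1), (31, 1), (34, 1), (199, 1)], [(1, 0)], [133, 78], 0⟩], 1⟩,
  ⟨267, [(75, 1), (15, 1), (31, 1), (199, 0)], [(1, 0)], [], 1⟩,
  ⟨7, [(75, 1), (260, 1), (199, 1), (6, 0), (77, 0)], [(1, 0)], [], 1⟩,
  ⟨32, [(199, 1), (260, 1), (6, 0), (247, 0)], [], [], 1⟩]
private noncomputable def _root_.Cfsg.Agent.LsF.fea08e1_0 : {f // @Cfsg.Agent.H235.Ore.Eng.elemN = f} := ⟨_, by first | (delta Cfsg.Agent.H235.Ore.Eng.elemN; rewrite [Cfsg.Agent.LsF.any_eq]; exact rfl) | exact rfl⟩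
private noncomputable def _root_.Cfsg.Agent.LsF.fea08e1_1 : {f // @Cfsg.Agent.H235.Ore.Eng.beqL = f} := ⟨_, by first | (delta Cfsg.Agent.H235.Ore.Eng.beqL List.brecOn List.brecOn.go Cfsg.Agent.H235.Ore.Eng.beqL._f; rewrite [Cfsg.Agent.LsF.and_eq]; (try delta Cfsg.Agent.H235.Ore.Eng.beqL.match_1); (try delta Cfsg.Agent.H235.Ore.Eng.beqL._sparseCasesOn_1); (try delta Cfsg.Agent.H235.Ore.Eng.beqL._sparseCasesOn_2); (try delta List.casesOn); first | dsimp -zeta only | exact rfl) | exact rfl⟩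
private noncomputable def _root_.Cfsg.Agent.LsF.fea08e1_2 : {f // @Cfsg.Agent.H235.Ore.Eng.filt = f} := ⟨_, by first | (delta Cfsg.Agent.H235.Ore.Eng.filt; rewrite [Cfsg.Agent.LsF.cond_eq]; exact rfl) | exact rfl⟩
private noncomputable def _root_.Cfsg.Agent.LsF.fea08e1_3 : {f // @Cfsg.Agent.H235.Ore.Eng.tt = f} := ⟨_, by first | (delta Cfsg.Agent.H235.Ore.Eng.tt; rewrite [Cfsg.Agent.LsF.and_eq, Cfsg.Agent.LsF.all_eq]; exact rfl) | exact rfl⟩
private noncomputable def _root_.Cfsg.Agent.LsF.fea08e1_4 : {f // @Cfsg.Agent.H235.Ore.Eng.cz = f} := ⟨_, by first | (delta Cfsg.Agent.H235.Ore.Eng.cz; rewrite [Cfsg.Agent.LsF.cond_eq, Cfsg.Agent.LsF.foldr_eq]; exact rfl) | exact rfl⟩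
private noncomputable def _root_.Cfsg.Agent.LsF.fea08e1_5 : {f // @Cfsg.Agent.H235.Ore.Eng.cand = f} := ⟨_, by first | (delta Cfsg.Agent.H235.Ore.Eng.cand; rewrite [Cfsg.Agent.LsF.fea08e1_3.2, Cfsg.Agent.LsF.fea08e1_4.2, Cfsg.Agent.LsF.and_eq, Cfsg.Agent.LsF.all_eq]; exact rfl) | exact rfl⟩
private noncomputable def _root_.Cfsg.Agent.LsF.fea08e1_6 : {f // @Cfsg.Agent.H235.Ore.Eng.vOk = f} := ⟨_, by first | (delta Cfsg.Agent.H235.Ore.Eng.vOk; rewrite [Cfsg.Agent.LsF.fea08e1_0.2, Cfsg.Agent.LsF.fea08e1_1.2, Cfsg.Agent.LsF.fea08e1_2.2, Cfsg.Agent.LsF.fea08e1_3.2, Cfsg.Agent.LsF.fea08e1_5.2, Cfsg.Agent.LsF.and_eq, Cfsg.Agent.LsF.all_eq]; exact rfl) | exact rfl⟩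
private noncomputable def _root_.Cfsg.Agent.LsF.fea08e1_7 : {f // @Cfsg.Agent.H235.Ore.Eng.cnt = f} := ⟨_, by first | (delta Cfsg.Agent.H235.Ore.Eng.cnt; rewrite [Cfsg.Agent.LsF.cond_eq]; exact rfl) | exact rfl⟩
private noncomputable def _root_.Cfsg.Agent.LsF.fea08e1_8 : {f // @Cfsg.Agent.H235.Ore.Eng.nx = f} := ⟨_, by first | (delta Cfsg.Agent.H235.Ore.Eng.nx; rewrite [Cfsg.Agent.LsF.lappend_pat, Cfsg.Agent.LsF.map_eq, Cfsg.Agent.LsF.range_eq]; exact rfl) | exact rfl⟩
private noncomputable def _root_.Cfsg.Agent.LsF.fea08e1_9 : {f // @Cfsg.Agent.H235.Ore.Eng.run = f} := ⟨_, by first | (delta Cfsg.Agent.H235.Ore.Eng.run List.brecOn List.brecOn.go Cfsg.Agent.H235.Ore.Eng.run._f; rewrite [Cfsg.Agent.LsF.fea08e1_0.2, Cfsg.Agent.LsF.fea08e1_6.2, Cfsg.Agent.LsF.fea08e1_7.2, Cfsg.Agent.LsF.fea08e1_5.2, Cfsg.Agent.LsF.fea08e1_8.2, Cfsg.Agent.LsF.and_eq, Cfsg.Agent.LsF.all_eq]; (try delta Cfsg.Agent.H235.Ore.Eng.run.match_1); (try delta List.casesOn);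 first | dsimp -zeta only | exact rfl) | exact rfl⟩
private noncomputable def _root_.Cfsg.Agent.LsF.fea08e1_10 : {f // @Cfsg.Agent.H235.Ore.McLM.R = f} := ⟨_, by first | (delta Cfsg.Agent.H235.Ore.McLM.R; rewrite [Cfsg.Agent.LsF.cond_eq]; exact rfl) | exact rfl⟩
private noncomputable def _root_.Cfsg.Agent.LsF.fea08e1_11 : {f // @Cfsg.Agent.H235.Ore.McLM.tb = f} := ⟨_, by first | (delta Cfsg.Agent.H235.Ore.McLM.tb; rewrite [Cfsg.Agent.LsF.getD_eq]; exact rfl) | exact rfl⟩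
private noncomputable def _root_.Cfsg.Agent.LsF.fea08e1_12 : {f // @Cfsg.Agent.H235.Ore.McLM.act = f} := ⟨_, by first | (delta Cfsg.Agent.H235.Ore.McLM.act; rewrite [Cfsg.Agent.LsF.fea08e1_11.2, Cfsg.Agent.LsF.foldr_eq]; exact rfl) | exact rfl⟩
private noncomputable def _root_.Cfsg.Agent.LsF.fea08e1_13 : {f // @Cfsg.Agent.H235.Ore.McLM.pw = f} := ⟨_, by first | (delta Cfsg.Agent.H235.Ore.McLM.pw; rewrite [Cfsg.Agent.LsF.fea08e1_12.2]; exact rfl) | exact rfl⟩
theorem b2A : Nat.card ↥(centralizer ({w2 x2A} : Set ↥M2)) ≤ 80640 :=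
  (bnd (X := x2A) (l := l2A) (m := 2) (by ((try (rewrite [Cfsg.Agent.LsF.fea08e1_9.2, Cfsg.Agent.LsF.fea08e1_10.2, Cfsg.Agent.LsF.fea08e1_13.2])); decide +kernel))).trans (by decide)
theorem o2A : orderOf (wd x2A) = 2 := orderOf_eq (pv_pw _) (ps := [2]) (by norm_num) (by norm_num)
  (by decide +kernel) (by norm_num)
theorem f2A : fixN (wd x2A) = 35 := by
  rw [← pow_one (wd x2A), fixN_pow (pv_pw _)]
  decide +kernel

def x3A : List ℕ := [0, 2, 5, 3]
def l3A : List Lv := [⟨62, [], [(1, 1)], [], 270⟩,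
  ⟨91, [(62, 1), (233, 1), (149, 0)], [], [], 27⟩,
  ⟨207, [(62, 1), (91, 1), (51, 1)], [], [], 2⟩,
  ⟨46, [(62, 1), (110, 1), (158, 1), (186, 1)], [], [], 2⟩,
  ⟨96, [(62, 1), (149, 1), (110, 1), (77, 0)], [], [], 2⟩,
  ⟨267, [(233, 1), (44, 1), (96, 1), (207, 1), (38, 1)], [], [], 1⟩,
  ⟨199, [(149, 1), (233, 1), (91, 1), (38, 1), (96, 1)], [], [], 1⟩,
  ⟨7, [(233, 1), (110, 1), (44, 1), (199, 1), (51, 0)], [], [], 1⟩,
  ⟨32, [(62, 1), (207, 1), (186, 1), (253, 1), (149, 0)], [], [], 1⟩]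
theorem b3A : Nat.card ↥(centralizer ({w2 x3A} : Set ↥M2)) ≤ 58320 :=
  (bnd (X := x3A) (l := l3A) (m := 3) (by ((try (rewrite [Cfsg.Agent.LsF.fea08e1_9.2, Cfsg.Agent.LsF.fea08e1_10.2, Cfsg.Agent.LsF.fea08e1_13.2])); decide +kernel))).trans (by decide)
theorem o3A : orderOf (wd x3A) = 3 := orderOf_eq (pv_pw _) (ps := [3]) (by norm_num) (by norm_num)
  (by decide +kernel) (by norm_num)
theorem f3A : fixN (wd x3A) = 5 := by
  rw [← pow_one (wd x3A), fixN_pow (pv_pw _)]
  decide +kernel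

def x3B : List ℕ := [0, 3]
def l3B : List Lv := [⟨27, [], [(1, 1)], [], 18⟩,
  ⟨0, [(27, 1)], [(1, 2)], [], 2⟩,
  ⟨167, [(115, 1), (0, 1)], [(1, 0)], [], 27⟩,
  ⟨143, [(115, 1), (112, 1), (226, 1), (167, 0), (272, 1)], [], [⟨[(115, 1), (167, 1), (27, 0), (112, 0), (226, 1), (272, 1)], [], [80, 48, 46, 12, 1], 2⟩], 2⟩,
  ⟨77, [(27, 1), (272, 1), (167, 0), (115, 0), (151, 0)], [], [], 1⟩,
  ⟨267, [(112, 1), (0, 1), (77, 0), (94, 0), (272, 0), (136, 0)], [], [], 1⟩,
  ⟨199, [(115, 1), (0, 1), (272, 1), (260, 1), (136, 0)], [], [], 1⟩,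
  ⟨7, [(112, 1), (226, 1), (94, 0), (115, 0), (260, 1), (136, 0)], [], [], 1⟩,
  ⟨32, [(27, 1), (136, 1), (143, 0), (269, 1), (115, 0)], [], [], 1⟩]
theorem b3B : Nat.card ↥(centralizer ({w2 x3B} : Set ↥M2)) ≤ 1944 :=
  (bnd (X := x3B) (l := l3B) (m := 3) (by ((try (rewrite [Cfsg.Agent.LsF.fea08e1_9.2, Cfsg.Agent.LsF.fea08e1_10.2, Cfsg.Agent.LsF.fea08e1_13.2])); decide +kernel))).trans (by decide)
theorem o3B : orderOf (wd x3B) = 3 := orderOf_eq (pv_pw _) (ps := [3]) (by norm_num) (by norm_num)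
  (by decide +kernel) (by norm_num)
theorem f3B : fixN (wd x3B) = 14 := by
  rw [← pow_one (wd x3B), fixN_pow (pv_pw _)]
  decide +kernel

def x4A : List ℕ := [0, 1]
def l4A : List Lv := [⟨126, [], [(1, 1), (2, 0)], [], 48⟩,
  ⟨26, [(126, 1), (267, 1)], [(1, 1)], [], 4⟩,
  ⟨77, [(126, 1), (237, 1), (44, 1), (186, 0), (6, 0), (26, 0)], [], [⟨[(126, 1)], [(1, 2)], [75, 0], 1⟩], 1⟩,
  ⟨199, [(126, 1), (83, 1), (237, 1), (80, 0), (26, 0)], [], [], 1⟩,
  ⟨7, [(126, 1), (199, 1), (80, 0), (267, 0), (232, 0), (237, 0)], [], [], 1⟩,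
  ⟨32, [(126, 1), (267, 1), (237, 1), (44, 1)], [], [], 1⟩]
theorem b4A : Nat.card ↥(centralizer ({w2 x4A} : Set ↥M2)) ≤ 192 :=
  (bnd (X := x4A) (l := l4A) (m := 4) (by ((try (rewrite [Cfsg.Agent.LsF.fea08e1_9.2, Cfsg.Agent.LsF.fea08e1_10.2, Cfsg.Agent.LsF.fea08e1_13.2])); decide +kernel))).trans (by decide)
theorem o4A : orderOf (wd x4A) = 4 := orderOf_eq (pv_pw _) (ps := [2]) (by norm_num) (by norm_num)
  (by decide +kernel) (by norm_num)
theorem f4A : fixN (wd x4A) = 7 := by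
  rw [← pow_one (wd x4A), fixN_pow (pv_pw _)]
  decide +kernel

def x5A : List ℕ := [0, 1, 3, 2, 4, 5]
def l5A : List Lv := [⟨161, [], [(2, 0)], [], 75⟩,
  ⟨120, [(209, 1), (140, 1), (161, 0)], [(1, 1)], [], 5⟩,
  ⟨128, [(161, 1), (211, 1), (140, 0), (120, 0)], [(1, 1)], [], 4⟩,
  ⟨77, [(161, 1), (128, 1), (140, 0), (7, 0)], [(1, 0)], [], 1⟩,
  ⟨267, [(140, 1), (199, 0), (161, 0), (7, 0)], [(1, 0)], [], 1⟩,
  ⟨32, [(161, 1), (199, 1), (209, 0), (264, 1)], [(1, 1)], [], 1⟩]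
theorem b5A : Nat.card ↥(centralizer ({w2 x5A} : Set ↥M2)) ≤ 1500 :=
  (bnd (X := x5A) (l := l5A) (m := 5) (by ((try (rewrite [Cfsg.Agent.LsF.fea08e1_9.2, Cfsg.Agent.LsF.fea08e1_10.2, Cfsg.Agent.LsF.fea08e1_13.2])); decide +kernel))).trans (by decide)
private noncomputable def _root_.Cfsg.Agent.LsF.fea08e1_14 : {f // @Cfsg.Agent.H235.Ore.Eng.oOk = f} := ⟨_, by first | (delta Cfsg.Agent.H235.Ore.Eng.oOk; rewrite [Cfsg.Agent.LsF.fea08e1_7.2, Cfsg.Agent.LsF.ndiv_pat, Cfsg.Agent.LsF.and_eq, Cfsg.Agent.LsF.all_eq]; exact rfl) | exact rfl⟩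
theorem o5A : orderOf (wd x5A) = 5 := orderOf_eq (pv_pw _) (ps := [5]) (by norm_num) (by norm_num)
  (by ((try (rewrite [Cfsg.Agent.LsF.fea08e1_14.2, Cfsg.Agent.LsF.fea08e1_13.2])); decide +kernel)) (by norm_num)
theorem f5A : fixN (wd x5A) = 0 := by
  rw [← pow_one (wd x5A), fixN_pow (pv_pw _)]
  decide +kernel

def x5B : List ℕ := [3, 6]
def l5B : List Lv := [⟨262, [], [(2, 1)], [⟨[], [(1, 2)], [149, 146, 103, 94, 0], 0⟩], 10⟩,
  ⟨57, [(262, 1), (30, 1)], [(1, 1)], [], 5⟩,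
  ⟨267, [(179, 1), (154, 1), (262, 0), (68, 1)], [(1, 0)], [], 1⟩,
  ⟨199, [(262, 1), (7, 1), (257, 1), (68, 1)], [], [], 1⟩,
  ⟨32, [(262, 1), (132, 1), (239, 1)], [(2, 1)], [], 1⟩]
theorem b5B : Nat.card ↥(centralizer ({w2 x5B} : Set ↥M2)) ≤ 50 :=
  (bnd (X := x5B) (l := l5B) (m := 5) (by ((try (rewrite [Cfsg.Agent.LsF.fea08e1_9.2, Cfsg.Agent.LsF.fea08e1_10.2, Cfsg.Agent.LsF.fea08e1_13.2])); decide +kernel))).trans (by decide)
theorem o5B : orderOf (wd x5B) = 5 := orderOf_eq (pv_pw _) (ps := [5]) (by norm_num) (by norm_num)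
  (by decide +kernel) (by norm_num)
theorem f5B : fixN (wd x5B) = 5 := by
  rw [← pow_one (wd x5B), fixN_pow (pv_pw _)]
  decide +kernel

def x6A : List ℕ := [0, 2, 3, 5]
def l6A : List Lv := [⟨104, [], [(1, 1)], [], 30⟩,
  ⟨126, [(104, 1), (49, 0), (81, 0)], [(1, 1)], [], 6⟩,
  ⟨69, [(104, 1), (49, 1), (81, 0), (126, 0)], [(1, 1)], [], 2⟩,
  ⟨167, [(49, 1), (81, 1), (237, 1), (131, 0), (6, 0)], [(1, 0)], [], 2⟩,
  ⟨77, [(49, 1), (69, 1), (237, 1), (244, 1), (126, 1), (6, 0)], [(1, 0)], [], 1⟩,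
  ⟨199, [(81, 1), (237, 1), (244, 1), (25, 1), (162, 0)], [], [], 1⟩,
  ⟨7, [(81, 1), (167, 1), (126, 1), (199, 1), (104, 0)], [], [], 1⟩,
  ⟨32, [(49, 1), (267, 1), (196, 1), (104, 0)], [], [], 1⟩]
theorem b6A : Nat.card ↥(centralizer ({w2 x6A} : Set ↥M2)) ≤ 720 :=
  (bnd (X := x6A) (l := l6A) (m := 6) (by ((try (rewrite [Cfsg.Agent.LsF.fea08e1_9.2, Cfsg.Agent.LsF.fea08e1_10.2, Cfsg.Agent.LsF.fea08e1_13.2])); decide +kernel))).trans (by decide)
theorem o6A : orderOf (wd x6A) = 6 := orderOf_eq (pv_pw _) (ps := [2, 3]) (by norm_num) (by norm_num)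
  (by ((try (rewrite [Cfsg.Agent.LsF.fea08e1_14.2, Cfsg.Agent.LsF.fea08e1_13.2])); decide +kernel)) (by norm_num)
theorem f6A : fixN (wd x6A) = 5 := by
  rw [← pow_one (wd x6A), fixN_pow (pv_pw _)]
  decide +kernel

def x6B : List ℕ := [0, 2, 3]
def l6B : List Lv := [⟨124, [], [(2, 1), (1, 1)], [], 6⟩,
  ⟨172, [(124, 1), (23, 1)], [(1, 1), (2, 0)], [], 12⟩,
  ⟨77, [(124, 1), (228, 1), (188, 1), (183, 0)], [(1, 1)], [], 1⟩,
  ⟨267, [(23, 1), (41, 1), (228, 1), (183, 0), (113, 0), (172, 0)], [(1, 1)], [], 1⟩,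
  ⟨199, [(124, 1), (225, 1), (188, 0), (222, 0), (23, 0)], [(1, 0)], [], 1⟩,
  ⟨7, [(23, 1), (188, 1), (228, 1), (213, 1), (269, 1)], [], [], 1⟩,
  ⟨32, [(23, 1), (188, 1), (228, 1), (267, 1)], [(1, 1)], [], 1⟩]
theorem b6B : Nat.card ↥(centralizer ({w2 x6B} : Set ↥M2)) ≤ 72 :=
  (bnd (X := x6B) (l := l6B) (m := 6) (by ((try (rewrite [Cfsg.Agent.LsF.fea08e1_9.2, Cfsg.Agent.LsF.fea08e1_10.2, Cfsg.Agent.LsF.fea08e1_13.2])); decide +kernel))).trans (by decide)
theorem o6B : orderOf (wd x6B) = 6 := orderOf_eq (pv_pw _) (ps := [2, 3]) (by norm_num) (by norm_num)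
  (by ((try (rewrite [Cfsg.Agent.LsF.fea08e1_14.2, Cfsg.Agent.LsF.fea08e1_13.2])); decide +kernel)) (by norm_num)
theorem f6B : fixN (wd x6B) = 2 := by
  rw [← pow_one (wd x6B), fixN_pow (pv_pw _)]
  decide +kernel

def x7A : List ℕ := [0, 1, 4, 3]
def l7A : List Lv := [⟨182, [], [(2, 1), (1, 0), (3, 0)], [⟨[], [(1, 0), (2, 0), (3, 0)], [274, 273, 271, 270, 266, 252, 250, 249, 247, 242, 241, 239, 235, 233, 232, 231, 230, 227, 223, 222, 221, 210, 206, 199, 196, 195, 188, 186, 183, 176, 175, 174, 171, 169, 164, 161, 152, 149, 146, 142, 133, 128, 125, 122, 116, 115, 111, 106, 105, 96, 95, 94, 93, 91, 90, 88, 87, 83, 82, 81, 80, 78, 77, 76, 75, 69, 67, 61, 55, 51, 45, 42, 36, 35, 27, 26, 16, 13, 9, 7, 5, 3, 2, 0], 36⟩], 14⟩,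
  ⟨77, [(182, 1), (211, 0), (173, 0), (58, 1), (32, 0)], [(1, 0), (2, 0)], [⟨[(211, 1), (182, 0), (32, 0), (173, 0), (205, 0)], [], [223, 183, 93, 0], 1⟩], 1⟩,
  ⟨267, [(111, 1), (205, 0)], [(2, 1), (3, 1)], [], 1⟩,
  ⟨199, [(182, 1), (32, 1), (7, 1), (126, 1), (58, 1)], [], [], 1⟩]
theorem b7A : Nat.card ↥(centralizer ({w2 x7A} : Set ↥M2)) ≤ 14 :=
  (bnd (X := x7A) (l := l7A) (m := 7) (by ((try (rewrite [Cfsg.Agent.LsF.fea08e1_9.2, Cfsg.Agent.LsF.fea08e1_10.2, Cfsg.Agent.LsF.fea08e1_13.2])); decide +kernel))).trans (by decide)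
theorem o7A : orderOf (wd x7A) = 7 := orderOf_eq (pv_pw _) (ps := [7]) (by norm_num) (by norm_num)
  (by ((try (rewrite [Cfsg.Agent.LsF.fea08e1_14.2, Cfsg.Agent.LsF.fea08e1_13.2])); decide +kernel)) (by norm_num)
theorem f7A : fixN (wd x7A) = 2 := by
  rw [← pow_one (wd x7A), fixN_pow (pv_pw _)]
  decide +kernel

def x8A : List ℕ := [0, 1, 2]
def l8A : List Lv := [⟨57, [], [(2, 1), (3, 1), (1, 0)], [], 16⟩,
  ⟨77, [(212, 1), (22, 1)], [(3, 1), (1, 0), (2, 0)], [⟨[(212, 1), (78, 1), (94, 0), (70, 0)], [(1, 0)], [17], 0⟩], 1⟩,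
  ⟨267, [(57, 1), (43, 1), (77, 0)], [(4, 2), (1, 0)], [], 1⟩,
  ⟨199, [(212, 1), (22, 1), (78, 1), (108, 1), (94, 0)], [], [], 1⟩,
  ⟨7, [(212, 1), (86, 1)], [(2, 1), (1, 1), (3, 0)], [], 1⟩,
  ⟨32, [(94, 1), (274, 1), (250, 1), (180, 0)], [(1, 1)], [], 1⟩]
theorem b8A : Nat.card ↥(centralizer ({w2 x8A} : Set ↥M2)) ≤ 16 :=
  (bnd (X := x8A) (l := l8A) (m := 8) (by ((try (rewrite [Cfsg.Agent.LsF.fea08e1_9.2, Cfsg.Agent.LsF.fea08e1_10.2, Cfsg.Agent.LsF.fea08e1_13.2])); decide +kernel))).trans (by decide)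
theorem o8A : orderOf (wd x8A) = 8 := orderOf_eq (pv_pw _) (ps := [2]) (by norm_num) (by norm_num)
  (by ((try (rewrite [Cfsg.Agent.LsF.fea08e1_14.2, Cfsg.Agent.LsF.fea08e1_13.2])); decide +kernel)) (by norm_num)
theorem f8A : fixN (wd x8A) = 1 := by
  rw [← pow_one (wd x8A), fixN_pow (pv_pw _)]
  decide +kernel

def x9A : List ℕ := [0, 6, 3, 6, 5]
def l9A : List Lv := [⟨205, [], [(2, 1), (1, 0)], [⟨[], [(1, 2)], [131, 0], 0⟩], 27⟩,
  ⟨77, [(238, 1), (22, 1), (256, 0), (83, 0), (205, 0), (25, 0)], [(4, 1)], [], 1⟩,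
  ⟨267, [(238, 1), (22, 1), (25, 1), (256, 0)], [(4, 1)], [], 1⟩,
  ⟨199, [(25, 1), (83, 1), (77, 0), (238, 0)], [(4, 1)], [], 1⟩,
  ⟨7, [(179, 1), (117, 1), (259, 1), (205, 0)], [(2, 1)], [], 1⟩,
  ⟨32, [(48, 1), (267, 1), (179, 1), (205, 0)], [(4, 1)], [], 1⟩]
theorem b9A : Nat.card ↥(centralizer ({w2 x9A} : Set ↥M2)) ≤ 27 :=
  (bnd (X := x9A) (l := l9A) (m := 9) (by ((try (rewrite [Cfsg.Agent.LsF.fea08e1_9.2, Cfsg.Agent.LsF.fea08e1_10.2, Cfsg.Agent.LsF.fea08e1_13.2])); decide +kernel))).trans (by decide)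
theorem o9A : orderOf (wd x9A) = 9 := orderOf_eq (pv_pw _) (ps := [3]) (by norm_num) (by norm_num)
  (by ((try (rewrite [Cfsg.Agent.LsF.fea08e1_14.2, Cfsg.Agent.LsF.fea08e1_13.2])); decide +kernel)) (by norm_num)
theorem f9A : fixN (wd x9A) = 2 := by
  rw [← pow_one (wd x9A), fixN_pow (pv_pw _)]
  decide +kernel

def x10A : List ℕ := [3, 4, 3, 5, 6]
def l10A : List Lv := [⟨261, [], [(1, 1), (5, 0)], [], 60⟩,
  ⟨77, [(170, 1), (76, 1), (160, 1), (151, 0)], [(3, 1)], [], 1⟩,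
  ⟨267, [(42, 1), (151, 1), (170, 1)], [(2, 0)], [], 1⟩,
  ⟨7, [(261, 1), (228, 1), (170, 1), (151, 0)], [(3, 1)], [], 1⟩,
  ⟨32, [(199, 1), (212, 1), (194, 1)], [(2, 0)], [], 1⟩]
theorem b10A : Nat.card ↥(centralizer ({w2 x10A} : Set ↥M2)) ≤ 60 :=
  (bnd (X := x10A) (l := l10A) (m := 10) (by ((try (rewrite [Cfsg.Agent.LsF.fea08e1_9.2, Cfsg.Agent.LsF.fea08e1_10.2, Cfsg.Agent.LsF.fea08e1_13.2])); decide +kernel))).trans (by decide)
theorem o10A : orderOf (wd x10A) = 10 := orderOf_eq (pv_pw _) (ps := [2, 5]) (by norm_num) (by norm_num)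
  (by ((try (rewrite [Cfsg.Agent.LsF.fea08e1_14.2, Cfsg.Agent.LsF.fea08e1_13.2])); decide +kernel)) (by norm_num)
theorem f10A : fixN (wd x10A) = 0 := by
  rw [← pow_one (wd x10A), fixN_pow (pv_pw _)]
  decide +kernel

def x11A : List ℕ := [4, 6, 5, 3]
def l11A : List Lv := [⟨106, [], [(1, 1), (4, 1), (2, 0)], [], 22⟩,
  ⟨77, [(220, 1), (265, 1), (106, 0)], [(2, 1), (3, 1)], [], 1⟩,
  ⟨267, [(76, 1), (1, 1)], [(2, 1), (5, 1), (1, 0)], [], 1⟩,
  ⟨199, [(106, 1), (220, 1), (205, 0)], [(1, 1), (2, 1)], [], 1⟩,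
  ⟨7, [(107, 1), (199, 1), (132, 0), (269, 1)], [(1, 0)], [], 1⟩,
  ⟨32, [(199, 1), (1, 1), (269, 1)], [(1, 1), (2, 1)], [], 1⟩]
theorem b11A : Nat.card ↥(centralizer ({w2 x11A} : Set ↥M2)) ≤ 22 :=
  (bnd (X := x11A) (l := l11A) (m := 11) (by ((try (rewrite [Cfsg.Agent.LsF.fea08e1_9.2, Cfsg.Agent.LsF.fea08e1_10.2, Cfsg.Agent.LsF.fea08e1_13.2])); decide +kernel))).trans (by decide)
theorem o11A : orderOf (wd x11A) = 11 := orderOf_eq (pv_pw _) (ps := [11]) (by norm_num) (by norm_num)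
  (by ((try (rewrite [Cfsg.Agent.LsF.fea08e1_14.2, Cfsg.Agent.LsF.fea08e1_13.2])); decide +kernel)) (by norm_num)
theorem f11A : fixN (wd x11A) = 0 := by
  rw [← pow_one (wd x11A), fixN_pow (pv_pw _)]
  decide +kernel

def x12A : List ℕ := [0, 3, 5, 6]
def l12A : List Lv := [⟨153, [], [(2, 1), (1, 0)], [], 12⟩,
  ⟨209, [(196, 1), (273, 0), (6, 0)], [(1, 0), (2, 0)], [⟨[(153, 1), (131, 1), (273, 1)], [(1, 0)], [137, 68, 19, 1], 3⟩], 2⟩,
  ⟨77, [(273, 1), (131, 0), (232, 1), (6, 0), (196, 1)], [(1, 0)], [], 1⟩,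
  ⟨267, [(196, 1), (273, 0), (6, 0), (102, 1), (189, 1)], [(1, 0)], [], 1⟩,
  ⟨199, [(153, 1), (109, 1), (6, 0), (270, 0)], [], [], 1⟩,
  ⟨7, [(273, 1), (171, 1), (131, 0), (6, 0)], [(1, 0)], [], 1⟩,
  ⟨32, [(166, 1), (273, 1), (131, 0), (261, 0)], [], [], 1⟩]
theorem b12A : Nat.card ↥(centralizer ({w2 x12A} : Set ↥M2)) ≤ 24 :=
  (bnd (X := x12A) (l := l12A) (m := 12) (by ((try (rewrite [Cfsg.Agent.LsF.fea08e1_9.2, Cfsg.Agent.LsF.fea08e1_10.2, Cfsg.Agent.LsF.fea08e1_13.2])); decide +kernel))).trans (by decide)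
theorem o12A : orderOf (wd x12A) = 12 := orderOf_eq (pv_pw _) (ps := [2, 3]) (by norm_num) (by norm_num)
  (by ((try (rewrite [Cfsg.Agent.LsF.fea08e1_14.2, Cfsg.Agent.LsF.fea08e1_13.2])); decide +kernel)) (by norm_num)
theorem f12A : fixN (wd x12A) = 1 := by
  rw [← pow_one (wd x12A), fixN_pow (pv_pw _)]
  decide +kernel

def x14A : List ℕ := [2, 4, 5, 6]
def l14A : List Lv := [⟨58, [], [(6, 1), (1, 0), (2, 0)], [], 14⟩,
  ⟨77, [(178, 0), (118, 0), (243, 1)], [(7, 2), (1, 1)], [], 1⟩,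
  ⟨267, [(170, 1), (8, 1), (158, 0)], [(6, 1), (1, 1)], [], 1⟩,
  ⟨32, [(199, 1), (244, 1), (47, 0), (267, 1)], [(4, 1)], [], 1⟩]
theorem b14A : Nat.card ↥(centralizer ({w2 x14A} : Set ↥M2)) ≤ 14 :=
  (bnd (X := x14A) (l := l14A) (m := 14) (by ((try (rewrite [Cfsg.Agent.LsF.fea08e1_9.2, Cfsg.Agent.LsF.fea08e1_10.2, Cfsg.Agent.LsF.fea08e1_13.2])); decide +kernel))).trans (by decide)
theorem o14A : orderOf (wd x14A) = 14 := orderOf_eq (pv_pw _) (ps := [2, 7]) (by norm_num) (by norm_num)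
  (by ((try (rewrite [Cfsg.Agent.LsF.fea08e1_14.2, Cfsg.Agent.LsF.fea08e1_13.2])); decide +kernel)) (by norm_num)
theorem f14A : fixN (wd x14A) = 0 := by
  rw [← pow_one (wd x14A), fixN_pow (pv_pw _)]
  decide +kernel

def x15A : List ℕ := [0, 3, 6, 5, 4]
def l15A : List Lv := [⟨264, [], [(3, 0), (1, 1)], [], 30⟩,
  ⟨77, [(124, 1), (44, 1), (70, 1), (228, 1)], [(4, 1)], [], 1⟩,
  ⟨267, [(18, 1), (57, 1), (44, 1)], [(1, 1), (2, 0)], [], 1⟩,
  ⟨199, [(124, 1), (156, 1), (57, 0)], [(6, 0), (1, 0)], [], 1⟩,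
  ⟨7, [(264, 1), (18, 1), (163, 0)], [(6, 0)], [], 1⟩,
  ⟨32, [(264, 1), (239, 1), (124, 0)], [(3, 0), (2, 0)], [], 1⟩]
theorem b15A : Nat.card ↥(centralizer ({w2 x15A} : Set ↥M2)) ≤ 30 :=
  (bnd (X := x15A) (l := l15A) (m := 15) (by ((try (rewrite [Cfsg.Agent.LsF.fea08e1_9.2, Cfsg.Agent.LsF.fea08e1_10.2, Cfsg.Agent.LsF.fea08e1_13.2])); decide +kernel))).trans (by decide)
theorem o15A : orderOf (wd x15A) = 15 := orderOf_eq (pv_pw _) (ps := [3, 5]) (by norm_num) (by norm_num)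
  (by ((try (rewrite [Cfsg.Agent.LsF.fea08e1_14.2, Cfsg.Agent.LsF.fea08e1_13.2])); decide +kernel)) (by norm_num)
theorem f15A : fixN (wd x15A) = 0 := by
  rw [← pow_one (wd x15A), fixN_pow (pv_pw _)]
  decide +kernel

def x30A : List ℕ := [2, 5, 3, 6, 4]
def l30A : List Lv := [⟨241, [], [(12, 0), (8, 0)], [], 30⟩,
  ⟨77, [(241, 1), (222, 1), (58, 1)], [(9, 1), (7, 0)], [], 1⟩,
  ⟨267, [(241, 1), (25, 1), (270, 0)], [(12, 0), (2, 0)], [], 1⟩,
  ⟨199, [(35, 1), (117, 1)], [(6, 0), (1, 0)], [], 1⟩]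
theorem b30A : Nat.card ↥(centralizer ({w2 x30A} : Set ↥M2)) ≤ 30 :=
  (bnd (X := x30A) (l := l30A) (m := 30) (by ((try (rewrite [Cfsg.Agent.LsF.fea08e1_9.2, Cfsg.Agent.LsF.fea08e1_10.2, Cfsg.Agent.LsF.fea08e1_13.2])); decide +kernel))).trans (by decide)
theorem o30A : orderOf (wd x30A) = 30 := orderOf_eq (pv_pw _) (ps := [2, 3, 5]) (by norm_num) (by norm_num)
  (by ((try (rewrite [Cfsg.Agent.LsF.fea08e1_14.2, Cfsg.Agent.LsF.fea08e1_13.2])); decide +kernel)) (by norm_num)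
theorem f30A : fixN (wd x30A) = 0 := by
  rw [← pow_one (wd x30A), fixN_pow (pv_pw _)]
  decide +kernel

/-! ### The list -/

open Classical in
/-- order, number of fixed points, a bit -/
noncomputable def inv (g : ↥M2) : ℕ × ℕ × ℕ :=
  (orderOf (g : Perm (Fin 275)), fixN (g : Perm (Fin 275)), if IsConj (w2 x11A) g then 1 else 0)

theorem inv_conj {g h : ↥M2} (k : IsConj g h) : inv g = inv h := by
  unfold inv
  have h1 : IsConj (w2 x11A) g ↔ IsConj (w2 x11A) h := ⟨fun t => t.trans k, fun t => t.trans k.symm⟩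
  have h2 : orderOf (g : Perm (Fin 275)) = orderOf (h : Perm (Fin 275)) := by
    obtain ⟨c, rfl⟩ := isConj_iff.1 k
    exact ((MulAut.conj (c : Perm (Fin 275))).orderOf_eq (g : Perm (Fin 275))).symm
  have h3 : fixN (g : Perm (Fin 275)) = fixN (h : Perm (Fin 275)) := by
    obtain ⟨c, rfl⟩ := isConj_iff.1 k
    exact (fixN_conj (c : Perm (Fin 275)) g).symm
  rw [h2, h3]
  by_cases t : IsConj (w2 x11A) g
  · rw [if_pos t, if_pos (h1.1 t)]
  · rw [if_neg t, if_neg fun k => t (h1.2 k)]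

noncomputable def invC : ConjClasses ↥M2 → ℕ × ℕ × ℕ := Quotient.lift inv fun _ _ h => inv_conj h

theorem inv_w2 {X : List ℕ} {o f : ℕ} (ho : orderOf (wd X) = o) (hf : fixN (wd X) = f) (h : o ≠ 11) :
    inv (w2 X) = (o, f, 0) := by
  have h1 : ¬ IsConj (w2 x11A) (w2 X) := by
    intro k
    have h2 := congrArg Prod.fst (inv_conj k)
    have h3 : orderOf (wd x11A) = orderOf (wd X) := h2
    rw [o11A, ho] at h3
    exact h h3.symm
  show (orderOf (wd X), fixN (wd X), _) = _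
  rw [ho, hf, if_neg h1]

theorem not_conj_inv : ¬ IsConj (w2 x11A) (w2 x11A)⁻¹ := by
  intro k
  obtain ⟨c, hc⟩ := isConj_iff.1 k
  exact nc11 c.2 (congrArg Subtype.val hc)

theorem fixN_inv {n : ℕ} (g : Perm (Fin n)) : fixN g⁻¹ = fixN g := by
  unfold fixN
  congr 1
  refine Finset.filter_congr fun i _ => ?_
  rw [Perm.inv_eq_iff_eq]
  exact eq_comm

/-- the list of the classes with the orders of the centralizers -/
noncomputable def L : List (↥M2 × ℕ) :=
  [(1, Nat.card ↥M2), (w2 x11A, 22), ((w2 x11A)⁻¹, 22), (w2 x2A, 80640), (w2 x3A, 58320), (w2 x3B, 1944), (w2 x4A, 192), (w2 x5A, 1500), (w2 x5B, 50), (w2 x6A, 720), (w2 x6B, 72), (w2 x7A, 14), (w2 x8A, 16), (w2 x9A, 27), (w2 x10A, 60), (w2 x12A, 24), (w2 x14A, 14), (w2 x15A, 30), (w2 x30A, 30)]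

def V : List (ℕ × ℕ × ℕ) := [(1, 275, 0), (11, 0, 1), (11, 0, 0), (2, 35, 0), (3, 5, 0), (3, 14, 0), (4, 7, 0), (5, 0, 0), (5, 5, 0), (6, 5, 0), (6, 2, 0), (7, 2, 0), (8, 1, 0), (9, 2, 0), (10, 0, 0), (12, 1, 0), (14, 0, 0), (15, 0, 0), (30, 0, 0)]

theorem L_inv : L.map (fun p => inv p.1) = V := by
  have h1 : inv 1 = (1, 275, 0) := inv_w2 (X := []) (by rw [wd_nil, orderOf_one]) (by rw [wd_nil]; exact fixN_eq_n.2 rfl)
    (by norm_num)
  have h2 : inv (w2 x11A) = (11, 0, 1) := by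
    show (orderOf (wd x11A), fixN (wd x11A), _) = _
    rw [o11A, f11A, if_pos (IsConj.refl _)]
  have h3 : inv (w2 x11A)⁻¹ = (11, 0, 0) := by
    show (orderOf (wd x11A)⁻¹, fixN (wd x11A)⁻¹, _) = _
    rw [orderOf_inv, fixN_inv, o11A, f11A, if_neg not_conj_inv]
  simp only [L, V, List.map_cons, List.map_nil, h1, h2, h3]
  rw [inv_w2 o2A f2A (by norm_num),
    inv_w2 o3A f3A (by norm_num),
    inv_w2 o3B f3B (by norm_num),
    inv_w2 o4A f4A (by norm_num),
    inv_w2 o5A f5A (by norm_num),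
    inv_w2 o5B f5B (by norm_num),
    inv_w2 o6A f6A (by norm_num),
    inv_w2 o6B f6B (by norm_num),
    inv_w2 o7A f7A (by norm_num),
    inv_w2 o8A f8A (by norm_num),
    inv_w2 o9A f9A (by norm_num),
    inv_w2 o10A f10A (by norm_num),
    inv_w2 o12A f12A (by norm_num),
    inv_w2 o14A f14A (by norm_num),
    inv_w2 o15A f15A (by norm_num),
    inv_w2 o30A f30A (by norm_num)]

theorem L_nodup : (L.map fun p => ConjClasses.mk p.1).Nodup := by
  apply List.Nodup.of_map invC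
  rw [List.map_map]
  have h : L.map (invC ∘ fun p => ConjClasses.mk p.1) = V := L_inv
  rw [h]
  decide +kernel

theorem L_cent : ∀ p ∈ L, Nat.card ↥(centralizer ({p.1} : Set ↥M2)) ≤ p.2 := by
  have h1 : Nat.card ↥(centralizer ({1} : Set ↥M2)) ≤ Nat.card ↥M2 :=
    Nat.le_of_dvd Nat.card_pos (Subgroup.card_subgroup_dvd_card _)
  have h2 : Nat.card ↥(centralizer ({(w2 x11A)⁻¹} : Set ↥M2)) ≤ 22 := by
    have e : centralizer ({(w2 x11A)⁻¹} : Set ↥M2) = centralizer ({w2 x11A} : Set ↥M2) := by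
      ext y
      rw [mem_centralizer_singleton_iff, mem_centralizer_singleton_iff]
      constructor
      · intro h
        have h3 := (show Commute y (w2 x11A)⁻¹ from h).inv_right.eq
        rwa [inv_inv] at h3
      · intro h
        exact (show Commute y (w2 x11A) from h).inv_right.eq
    rw [e]
    exact b11A
  intro p hp
  simp only [L, List.mem_cons, List.not_mem_nil, or_false] at hp
  rcases hp with rfl | rfl | rfl | rfl | rfl | rfl | rfl | rfl | rfl | rfl | rfl | rfl | rfl | rfl | rfl | rfl | rfl | rfl | rfl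
  · exact h1
  · exact b11A
  · exact h2
  · exact b2A
  · exact b3A
  · exact b3B
  · exact b4A
  · exact b5A
  · exact b5B
  · exact b6A
  · exact b6B
  · exact b7A
  · exact b8A
  · exact b9A
  · exact b10A
  · exact b12A
  · exact b14A
  · exact b15A
  · exact b30A

theorem L_mem : ∀ p ∈ L, p.1 ∈ K := by
  intro p hp
  simp only [L, List.mem_cons, List.not_mem_nil, or_false] at hp
  rcases hp with rfl | rfl | rfl | rfl | rfl | rfl | rfl | rfl | rfl | rfl | rfl | rfl | rfl | rfl | rfl | rfl | rfl | rfl | rfl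
  · exact one_mem _
  · exact w2_mem _
  · exact inv_mem (w2_mem _)
  · exact w2_mem _
  · exact w2_mem _
  · exact w2_mem _
  · exact w2_mem _
  · exact w2_mem _
  · exact w2_mem _
  · exact w2_mem _
  · exact w2_mem _
  · exact w2_mem _
  · exact w2_mem _
  · exact w2_mem _
  · exact w2_mem _
  · exact w2_mem _
  · exact w2_mem _
  · exact w2_mem _
  · exact w2_mem _

theorem classes {g : ↥M2} (hg : g ∈ K) : ∃ p ∈ L, IsConj p.1 g := by
  refine complete K L L_mem L_cent L_nodup ?_ hg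
  rw [card_K]
  simp only [L, List.map_cons, List.map_nil, List.sum_cons, List.sum_nil]
  rw [Nat.div_self Nat.card_pos]
  have h := fun b : ℕ => Nat.div_le_div_right (c := b) card_M2
  generalize Nat.card ↥M2 = N at h ⊢
  have h14 : 128304000 ≤ N / 14 := h 14
  have h16 : 112266000 ≤ N / 16 := h 16
  have h22 : 81648000 ≤ N / 22 := h 22
  have h24 : 74844000 ≤ N / 24 := h 24
  have h27 : 66528000 ≤ N / 27 := h 27
  have h30 : 59875200 ≤ N / 30 := h 30
  have h50 : 35925120 ≤ N / 50 := h 50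
  have h60 : 29937600 ≤ N / 60 := h 60
  have h72 : 24948000 ≤ N / 72 := h 72
  have h192 : 9355500 ≤ N / 192 := h 192
  have h720 : 2494800 ≤ N / 720 := h 720
  have h1500 : 1197504 ≤ N / 1500 := h 1500
  have h1944 : 924000 ≤ N / 1944 := h 1944
  have h58320 : 30800 ≤ N / 58320 := h 58320
  have h80640 : 22275 ≤ N / 80640 := h 80640
  generalize N / 14 = d14 at h14 ⊢
  generalize N / 16 = d16 at h16 ⊢
  generalize N / 22 = d22 at h22 ⊢
  generalize N / 24 = d24 at h24 ⊢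
  generalize N / 27 = d27 at h27 ⊢
  generalize N / 30 = d30 at h30 ⊢
  generalize N / 50 = d50 at h50 ⊢
  generalize N / 60 = d60 at h60 ⊢
  generalize N / 72 = d72 at h72 ⊢
  generalize N / 192 = d192 at h192 ⊢
  generalize N / 720 = d720 at h720 ⊢
  generalize N / 1500 = d1500 at h1500 ⊢
  generalize N / 1944 = d1944 at h1944 ⊢
  generalize N / 58320 = d58320 at h58320 ⊢
  generalize N / 80640 = d80640 at h80640 ⊢
  omega

/-- a word as an element of `K0` -/
def wk (X : List ℕ) : ↥K0 := ⟨wd X, wd_mem X⟩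

theorem wk_append (v w : List ℕ) : wk (v ++ w) = wk v * wk w := Subtype.ext (wd_append v w)
theorem wk_reverse (w : List ℕ) : wk w.reverse = (wk w)⁻¹ := Subtype.ext (wd_reverse w)
theorem wk_nil : wk [] = 1 := rfl
theorem wk_eq {X Y : List ℕ} (h : chkB X Y = true) : wk X = wk Y := Subtype.ext (eq_of_chkB h)

/-- conjugation by `M2` as an automorphism of `K0` -/
def cj (m : ↥M2) : ↥K0 →* ↥K0 :=
  ((MulAut.conj (m : Perm (Fin 275))).toMonoidHom.comp K0.subtype).codRestrict K0 fun g => conj_mem m.2 g.2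

/-- **Class invariant properties hold everywhere if they hold for the representatives.** -/
theorem all_model (P : ↥K0 → Prop) (hP : ∀ (φ : ↥K0 →* ↥K0), Function.Injective φ → ∀ g, P g → P (φ g)) (h1 : P 1)
    (hi : P (wk x11A) → P (wk x11A)⁻¹) (h2A : P (wk x2A)) (h3A : P (wk x3A)) (h3B : P (wk x3B)) (h4A : P (wk x4A)) (h5A : P (wk x5A)) (h5B : P (wk x5B)) (h6A : P (wk x6A)) (h6B : P (wk x6B)) (h7A : P (wk x7A)) (h8A : P (wk x8A)) (h9A : P (wk x9A)) (h10A : P (wk x10A)) (h11A : P (wk x11A)) (h12A : P (wk x12A)) (h14A : P (wk x14A)) (h15A : P (wk x15A)) (h30A : P (wk x30A)) (g : ↥K0) : P g := by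
  obtain ⟨p, hp, hpg⟩ := classes (g := ⟨g, K0_le_M2 g.2⟩) (by rw [K, mem_subgroupOf]; exact g.2)
  obtain ⟨c, hc⟩ := isConj_iff.1 hpg
  have key : ∀ y : ↥K0, (y : Perm (Fin 275)) = p.1 → P y → P g := by
    intro y hy hPy
    have e : cj c y = g := by
      apply Subtype.ext
      show (c : Perm (Fin 275)) * y * (c : Perm (Fin 275))⁻¹ = g
      rw [hy]
      exact congrArg Subtype.val hc
    rw [← e]
    refine hP (cj c) (fun a b hab => ?_) y hPy
    have e1 : (c : Perm (Fin 275)) * a * (c : Perm (Fin 275))⁻¹ = (c : Perm (Fin 275)) * b * (c : Perm (Fin 275))⁻¹ :=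
      congrArg Subtype.val hab
    rw [mul_left_inj, mul_right_inj] at e1
    exact Subtype.ext e1
  simp only [L, List.mem_cons, List.not_mem_nil, or_false] at hp
  rcases hp with rfl | rfl | rfl | rfl | rfl | rfl | rfl | rfl | rfl | rfl | rfl | rfl | rfl | rfl | rfl | rfl | rfl | rfl | rfl
  · exact key 1 rfl h1
  · exact key _ rfl h11A
  · exact key (wk x11A)⁻¹ rfl (hi h11A)
  · exact key _ rfl h2A
  · exact key _ rfl h3A
  · exact key _ rfl h3B
  · exact key _ rfl h4A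
  · exact key _ (by exact rfl) h5A
  · exact key _ rfl h5B
  · exact key _ rfl h6A
  · exact key _ rfl h6B
  · exact key _ rfl h7A
  · exact key _ rfl h8A
  · exact key _ rfl h9A
  · exact key _ rfl h10A
  · exact key _ rfl h12A
  · exact key _ rfl h14A
  · exact key _ rfl h15A
  · exact key _ rfl h30A

/-! ### Witnesses -/

theorem isC_of {X A B : List ℕ} (h : chkB X (A ++ (B ++ (A.reverse ++ B.reverse))) = true) : IsC (wk X) := by
  have h1 := wk_eq h
  rw [wk_append, wk_append, wk_append, wk_reverse, wk_reverse] at h1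
  exact ⟨wk A, wk B, by rw [h1]; group⟩

theorem sq_of {S : List ℕ} (h : chkB (S ++ S) [] = true) : wk S * wk S = 1 := by
  have h1 := wk_eq h
  rwa [wk_append, wk_nil] at h1

theorem i4_of {X S T U V : List ℕ} (h : chkB X (S ++ (T ++ (U ++ V))) = true) (hS : chkB (S ++ S) [] = true)
    (hT : chkB (T ++ T) [] = true) (hU : chkB (U ++ U) [] = true) (hV : chkB (V ++ V) [] = true) : I4 (wk X) := by
  have h1 := wk_eq h
  rw [wk_append, wk_append, wk_append] at h1
  exact ⟨wk S, wk T, wk U, wk V, sq_of hS, sq_of hT, sq_of hU, sq_of hV, by rw [h1, mul_assoc, mul_assoc]⟩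

/-- the word is trivial after `k` repetitions -/
def pOk (X : List ℕ) (k : ℕ) : Bool := base.all fun b => Nat.beq (pw X k b) b

theorem pow_of {X : List ℕ} {k : ℕ} (h : pOk X k = true) : wk X ^ k = 1 := by
  unfold pOk at h
  rw [List.all_eq_true] at h
  apply Subtype.ext
  show wd X ^ k = 1
  refine eq_one (pow_mem (K0_le (wd_mem X)) k) fun b hb => ?_
  have hlt : b < 275 := (show ∀ b ∈ base, b < 275 by decide) b hb
  refine ⟨hlt, Fin.ext ?_⟩
  rw [← pv_pw X k ⟨b, hlt⟩]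
  exact Nat.eq_of_beq_eq_true (h b hb)

theorem pr_of {X A : List ℕ} {n j k : ℕ} (hj : pOk A j = true) (hk : pOk (A.reverse ++ X) k = true) (cj : j.Coprime n)
    (ck : k.Coprime n) : Pr n (wk X) := by
  refine ⟨wk A, (wk A)⁻¹ * wk X, by group, Nat.Coprime.of_dvd_left (orderOf_dvd_of_pow_eq_one (pow_of hj)) cj, ?_⟩
  rw [← wk_reverse, ← wk_append]
  exact Nat.Coprime.of_dvd_left (orderOf_dvd_of_pow_eq_one (pow_of hk)) ck

theorem pr_ord {X : List ℕ} {n o : ℕ} (h : orderOf (wd X) = o) (c : o.Coprime n) : Pr n (wk X) := by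
  apply Pr.of_coprime
  rwa [← Subgroup.orderOf_coe, show ((wk X : ↥K0) : Perm (Fin 275)) = wd X from rfl, h]

theorem p2A_6 : Pr 6 (wk x2A) := pr_of (A := [5, 6]) (j := 5) (k := 5) (by decide +kernel)
  (by decide +kernel) (by norm_num) (by norm_num)
theorem c2A : IsC (wk x2A) := isC_of (A := [1, 0, 1])
  (B := [4]) (by decide +kernel)
theorem i2A : I4 (wk x2A) := i4_of (S := [0]) (T := [])
  (U := []) (V := []) (by decide +kernel) (by decide +kernel)
  (by decide +kernel) (by decide +kernel) (by decide +kernel)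
theorem p3A_6 : Pr 6 (wk x3A) := pr_of (A := [0, 2, 5, 6]) (j := 5) (k := 5) (by decide +kernel)
  (by decide +kernel) (by norm_num) (by norm_num)
theorem c3A : IsC (wk x3A) := isC_of (A := [3, 5])
  (B := [2, 0]) (by decide +kernel)
theorem i3A : I4 (wk x3A) := i4_of (S := [1, 2, 0, 5, 1, 5, 3, 5, 1, 5, 0, 2, 1]) (T := [1, 2, 0, 6, 5, 4, 2, 4, 5, 6, 0, 2, 1])
  (U := [1, 2, 0, 1, 6, 5, 6, 5, 6, 1, 0, 2, 1]) (V := []) (by decide +kernel) (by decide +kernel)
  (by decide +kernel) (by decide +kernel) (by decide +kernel)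
theorem p3B_6 : Pr 6 (wk x3B) := pr_of (A := [3, 6]) (j := 5) (k := 5) (by decide +kernel)
  (by decide +kernel) (by norm_num) (by norm_num)
theorem c3B : IsC (wk x3B) := isC_of (A := [3])
  (B := [0]) (by decide +kernel)
theorem i3B : I4 (wk x3B) := i4_of (S := [0]) (T := [3])
  (U := []) (V := []) (by decide +kernel) (by decide +kernel)
  (by decide +kernel) (by decide +kernel) (by decide +kernel)
theorem p4A_6 : Pr 6 (wk x4A) := pr_of (A := [6, 5]) (j := 5) (k := 5) (by decide +kernel)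
  (by decide +kernel) (by norm_num) (by norm_num)
theorem c4A : IsC (wk x4A) := isC_of (A := [3, 6])
  (B := [0]) (by decide +kernel)
theorem i4A : I4 (wk x4A) := i4_of (S := [0]) (T := [1])
  (U := []) (V := []) (by decide +kernel) (by decide +kernel)
  (by decide +kernel) (by decide +kernel) (by decide +kernel)
theorem p5A_5 : Pr 5 (wk x5A) := pr_of (A := [0, 5]) (j := 4) (k := 3) (by decide +kernel)
  (by decide +kernel) (by norm_num) (by norm_num)
theorem c5A : IsC (wk x5A) := isC_of (A := [5, 1, 2, 3, 4])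
  (B := [0, 2, 4, 3, 1]) (by decide +kernel)
theorem i5A : I4 (wk x5A) := i4_of (S := [1, 2, 0, 1, 2, 5, 2, 1, 0, 2, 1]) (T := [1, 2, 0, 1, 2, 5, 4, 3, 6, 1, 6, 3, 4, 5, 2, 1, 0, 2, 1])
  (U := [1, 2, 0, 1, 2, 5, 6, 5, 3, 5, 6, 5, 2, 1, 0, 2, 1]) (V := []) (by decide +kernel) (by decide +kernel)
  (by decide +kernel) (by decide +kernel) (by decide +kernel)
theorem p5B_5 : Pr 5 (wk x5B) := pr_of (A := [3]) (j := 2) (k := 2) (by decide +kernel)
  (by decide +kernel) (by norm_num) (by norm_num)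
theorem c5B : IsC (wk x5B) := isC_of (A := [6])
  (B := [3, 6, 3]) (by decide +kernel)
theorem i5B : I4 (wk x5B) := i4_of (S := [3]) (T := [6])
  (U := []) (V := []) (by decide +kernel) (by decide +kernel)
  (by decide +kernel) (by decide +kernel) (by decide +kernel)
theorem p6A_6 : Pr 6 (wk x6A) := pr_of (A := [6, 3]) (j := 5) (k := 5) (by decide +kernel)
  (by decide +kernel) (by norm_num) (by norm_num)
theorem c6A : IsC (wk x6A) := isC_of (A := [3, 5])
  (B := [2, 5, 0]) (by decide +kernel)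
theorem i6A : I4 (wk x6A) := i4_of (S := [0, 2, 1, 3, 1, 2, 0]) (T := [0, 2, 1, 6, 2, 5, 6, 5, 2, 6, 1, 2, 0])
  (U := [0, 2, 1, 2, 1, 6, 2, 5, 2, 6, 1, 2, 1, 2, 0]) (V := []) (by decide +kernel) (by decide +kernel)
  (by decide +kernel) (by decide +kernel) (by decide +kernel)
theorem p6B_6 : Pr 6 (wk x6B) := pr_of (A := [3, 6]) (j := 5) (k := 5) (by decide +kernel)
  (by decide +kernel) (by norm_num) (by norm_num)
theorem c6B : IsC (wk x6B) := isC_of (A := [3, 4])
  (B := [0, 1, 2, 1]) (by decide +kernel)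
theorem i6B : I4 (wk x6B) := i4_of (S := [6, 1, 2, 0, 3, 6, 1, 6, 3, 0, 2, 1, 6]) (T := [6, 1, 3, 6, 3, 1, 6])
  (U := []) (V := []) (by decide +kernel) (by decide +kernel)
  (by decide +kernel) (by decide +kernel) (by decide +kernel)
theorem p7A_7 : Pr 7 (wk x7A) := pr_of (A := [0]) (j := 2) (k := 3) (by decide +kernel)
  (by decide +kernel) (by norm_num) (by norm_num)
theorem c7A : IsC (wk x7A) := isC_of (A := [4, 3])
  (B := [4, 0, 1, 0]) (by decide +kernel)
theorem i7A : I4 (wk x7A) := i4_of (S := [4, 0, 4]) (T := [3, 4, 3])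
  (U := [4, 1, 4]) (V := []) (by decide +kernel) (by decide +kernel)
  (by decide +kernel) (by decide +kernel) (by decide +kernel)
theorem p8A_6 : Pr 6 (wk x8A) := pr_of (A := [5, 6]) (j := 5) (k := 5) (by decide +kernel)
  (by decide +kernel) (by norm_num) (by norm_num)
theorem c8A : IsC (wk x8A) := isC_of (A := [1, 5, 6])
  (B := [0, 1, 2, 1]) (by decide +kernel)
theorem i8A : I4 (wk x8A) := i4_of (S := [0]) (T := [1])
  (U := [2]) (V := []) (by decide +kernel) (by decide +kernel)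
  (by decide +kernel) (by decide +kernel) (by decide +kernel)
theorem p9A_6 : Pr 6 (wk x9A) := pr_of (A := [0, 6, 5]) (j := 5) (k := 5) (by decide +kernel)
  (by decide +kernel) (by norm_num) (by norm_num)
theorem c9A : IsC (wk x9A) := isC_of (A := [5, 4, 1, 0, 5, 4, 5, 1, 0, 1, 4, 5])
  (B := [5, 4, 1, 6, 3, 4, 5, 0, 1, 4, 5]) (by decide +kernel)
theorem i9A : I4 (wk x9A) := i4_of (S := [0]) (T := [6, 3, 6])
  (U := [5]) (V := []) (by decide +kernel) (by decide +kernel)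
  (by decide +kernel) (by decide +kernel) (by decide +kernel)
theorem p10A_6 : Pr 6 (wk x10A) := pr_of (A := [6, 5, 0]) (j := 5) (k := 5) (by decide +kernel)
  (by decide +kernel) (by norm_num) (by norm_num)
theorem p10A_5 : Pr 5 (wk x10A) := pr_of (A := [3, 4, 3, 5]) (j := 4) (k := 2) (by decide +kernel)
  (by decide +kernel) (by norm_num) (by norm_num)
theorem c10A : IsC (wk x10A) := isC_of (A := [1, 2, 3, 4, 5, 4, 1, 6, 4, 3, 2, 1])
  (B := [1, 2, 3, 4, 6, 3, 5, 4, 3, 2, 1]) (by decide +kernel)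
theorem i10A : I4 (wk x10A) := i4_of (S := [3, 4, 3]) (T := [5])
  (U := [6]) (V := []) (by decide +kernel) (by decide +kernel)
  (by decide +kernel) (by decide +kernel) (by decide +kernel)
theorem p11A_11 : Pr 11 (wk x11A) := pr_of (A := [4, 6]) (j := 3) (k := 4) (by decide +kernel)
  (by decide +kernel) (by norm_num) (by norm_num)
theorem c11A : IsC (wk x11A) := isC_of (A := [2, 1, 2, 6, 3, 5, 1, 6, 5, 6, 2, 1, 2])
  (B := [2, 1, 2, 5, 4, 1, 6, 2, 1, 2]) (by decide +kernel)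
theorem i11A : I4 (wk x11A) := i4_of (S := [0, 1, 0, 3, 0, 1, 0]) (T := [6, 4, 3, 4, 6])
  (U := [0, 1, 5, 1, 0]) (V := []) (by decide +kernel) (by decide +kernel)
  (by decide +kernel) (by decide +kernel) (by decide +kernel)
theorem p12A_6 : Pr 6 (wk x12A) := pr_of (A := [6, 3]) (j := 5) (k := 5) (by decide +kernel)
  (by decide +kernel) (by norm_num) (by norm_num)
theorem c12A : IsC (wk x12A) := isC_of (A := [3, 0, 3, 6, 5, 6, 3])
  (B := [3, 0, 5, 3]) (by decide +kernel)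
theorem i12A : I4 (wk x12A) := i4_of (S := [1, 5, 6, 1, 3, 1, 6, 5, 1]) (T := [1, 5, 1])
  (U := [3, 0, 6, 0, 3]) (V := []) (by decide +kernel) (by decide +kernel)
  (by decide +kernel) (by decide +kernel) (by decide +kernel)
theorem p14A_6 : Pr 6 (wk x14A) := pr_of (A := [1, 6, 5]) (j := 5) (k := 5) (by decide +kernel)
  (by decide +kernel) (by norm_num) (by norm_num)
theorem p14A_7 : Pr 7 (wk x14A) := pr_of (A := [2, 4]) (j := 2) (k := 5) (by decide +kernel)
  (by decide +kernel) (by norm_num) (by norm_num)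
theorem c14A : IsC (wk x14A) := isC_of (A := [4, 5, 4, 6, 4])
  (B := [6, 2, 1, 4]) (by decide +kernel)
theorem i14A : I4 (wk x14A) := i4_of (S := [5, 4, 5, 3, 2, 3, 5, 4, 5]) (T := [5])
  (U := [6]) (V := []) (by decide +kernel) (by decide +kernel)
  (by decide +kernel) (by decide +kernel) (by decide +kernel)
theorem p15A_6 : Pr 6 (wk x15A) := pr_of (A := [0, 3, 6, 1, 6]) (j := 5) (k := 5) (by decide +kernel)
  (by decide +kernel) (by norm_num) (by norm_num)
theorem p15A_5 : Pr 5 (wk x15A) := pr_of (A := [0, 3, 6]) (j := 4) (k := 4) (by decide +kernel)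
  (by decide +kernel) (by norm_num) (by norm_num)
theorem c15A : IsC (wk x15A) := isC_of (A := [0, 5, 6, 4, 3, 6, 5, 0])
  (B := [0, 5, 6, 4, 6, 3, 5, 1, 4, 6, 5, 0]) (by decide +kernel)
theorem i15A : I4 (wk x15A) := i4_of (S := [0, 5, 3, 5, 0]) (T := [0, 5, 1, 4, 1, 5, 0])
  (U := [0, 5, 1, 0, 6, 4, 5, 4, 6, 0, 1, 5, 0]) (V := []) (by decide +kernel) (by decide +kernel)
  (by decide +kernel) (by decide +kernel) (by decide +kernel)
theorem p30A_6 : Pr 6 (wk x30A) := pr_of (A := [2, 5, 6]) (j := 5) (k := 5) (by decide +kernel)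
  (by decide +kernel) (by norm_num) (by norm_num)
theorem p30A_5 : Pr 5 (wk x30A) := pr_of (A := [2, 5]) (j := 3) (k := 4) (by decide +kernel)
  (by decide +kernel) (by norm_num) (by norm_num)
theorem c30A : IsC (wk x30A) := isC_of (A := [2, 3, 5, 3, 1, 3, 2])
  (B := [2, 3, 4, 6, 2, 5]) (by decide +kernel)
theorem i30A : I4 (wk x30A) := i4_of (S := [0, 3, 6, 5, 1, 6, 5, 6, 1, 5, 6, 3, 0]) (T := [0, 3, 6, 5, 1, 3, 4, 5, 4, 3, 1, 5, 6, 3, 0])
  (U := [0, 3, 6, 5, 1, 6, 0, 2, 0, 6, 1, 5, 6, 3, 0]) (V := []) (by decide +kernel) (by decide +kernel)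
  (by decide +kernel) (by decide +kernel) (by decide +kernel)

theorem ore_model : AllC ↥K0 :=
  all_model IsC (fun φ _ _ h => h.map φ) isC_one (fun h => h.inv) c2A c3A c3B c4A c5A c5B c6A c6B c7A c8A c9A c10A c11A c12A c14A c15A c30A

theorem I4.map' {G H : Type*} [Group G] [Group H] (φ : G →* H) {g : G} (h : I4 g) : I4 (φ g) := by
  obtain ⟨a, b, c, d, ha, hb, hc, hd, rfl⟩ := h
  refine ⟨φ a, φ b, φ c, φ d, ?_, ?_, ?_, ?_, by rw [map_mul, map_mul, map_mul]⟩
  · rw [← map_mul, ha, map_one]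
  · rw [← map_mul, hb, map_one]
  · rw [← map_mul, hc, map_one]
  · rw [← map_mul, hd, map_one]

theorem I4.inv' {G : Type*} [Group G] {g : G} (h : I4 g) : I4 g⁻¹ := by
  obtain ⟨a, b, c, d, ha, hb, hc, hd, rfl⟩ := h
  refine ⟨d, c, b, a, hd, hc, hb, ha, ?_⟩
  rw [mul_inv_rev, mul_inv_rev, mul_inv_rev, inv_eq_of_mul_eq_one_left ha, inv_eq_of_mul_eq_one_left hb,
    inv_eq_of_mul_eq_one_left hc, inv_eq_of_mul_eq_one_left hd, mul_assoc, mul_assoc]

theorem four_model : Inv4 ↥K0 :=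
  all_model I4 (fun φ _ _ h => I4.map' φ h) ⟨1, 1, 1, 1, mul_one 1, mul_one 1, mul_one 1, mul_one 1, by simp⟩
    (fun h => I4.inv' h) i2A i3A i3B i4A i5A i5B i6A i6B i7A i8A i9A i10A i11A i12A i14A i15A i30A

theorem pw6_model : All 6 ↥K0 :=
  all_model (Pr 6) (fun φ _ _ h => h.map φ) (Pr.one 6) (fun h => h.inv) p2A_6 p3A_6 p3B_6 p4A_6 (pr_ord o5A (by norm_num)) (pr_ord o5B (by norm_num)) p6A_6 p6B_6 (pr_ord o7A (by norm_num)) p8A_6 p9A_6 p10A_6 (pr_ord o11A (by norm_num)) p12A_6 p14A_6 p15A_6 p30A_6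
theorem pw5_model : All 5 ↥K0 :=
  all_model (Pr 5) (fun φ _ _ h => h.map φ) (Pr.one 5) (fun h => h.inv) (pr_ord o2A (by norm_num)) (pr_ord o3A (by norm_num)) (pr_ord o3B (by norm_num)) (pr_ord o4A (by norm_num)) p5A_5 p5B_5 (pr_ord o6A (by norm_num)) (pr_ord o6B (by norm_num)) (pr_ord o7A (by norm_num)) (pr_ord o8A (by norm_num)) (pr_ord o9A (by norm_num)) p10A_5 (pr_ord o11A (by norm_num)) (pr_ord o12A (by norm_num)) (pr_ord o14A (by norm_num)) p15A_5 p30A_5
theorem pw7_model : All 7 ↥K0 :=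
  all_model (Pr 7) (fun φ _ _ h => h.map φ) (Pr.one 7) (fun h => h.inv) (pr_ord o2A (by norm_num)) (pr_ord o3A (by norm_num)) (pr_ord o3B (by norm_num)) (pr_ord o4A (by norm_num)) (pr_ord o5A (by norm_num)) (pr_ord o5B (by norm_num)) (pr_ord o6A (by norm_num)) (pr_ord o6B (by norm_num)) p7A_7 (pr_ord o8A (by norm_num)) (pr_ord o9A (by norm_num)) (pr_ord o10A (by norm_num)) (pr_ord o11A (by norm_num)) (pr_ord o12A (by norm_num)) p14A_7 (pr_ord o15A (by norm_num)) (pr_ord o30A (by norm_num))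
theorem pw11_model : All 11 ↥K0 :=
  all_model (Pr 11) (fun φ _ _ h => h.map φ) (Pr.one 11) (fun h => h.inv) (pr_ord o2A (by norm_num)) (pr_ord o3A (by norm_num)) (pr_ord o3B (by norm_num)) (pr_ord o4A (by norm_num)) (pr_ord o5A (by norm_num)) (pr_ord o5B (by norm_num)) (pr_ord o6A (by norm_num)) (pr_ord o6B (by norm_num)) (pr_ord o7A (by norm_num)) (pr_ord o8A (by norm_num)) (pr_ord o9A (by norm_num)) (pr_ord o10A (by norm_num)) p11A_11 (pr_ord o12A (by norm_num)) (pr_ord o14A (by norm_num)) (pr_ord o15A (by norm_num)) (pr_ord o30A (by norm_num))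

theorem pw_model : Pw ↥K0 := by
  refine ⟨pw6_model, fun p hp h5 => ?_⟩
  by_cases h : p ∣ 898128000
  · have h1 : p = 5 ∨ p = 7 ∨ p = 11 := by
      rw [show 898128000 = 2 ^ 7 * (3 ^ 6 * (5 ^ 3 * (7 * 11))) by norm_num, hp.dvd_mul, hp.dvd_mul, hp.dvd_mul,
        hp.dvd_mul] at h
      rcases h with h | h | h | h | h
      · have := (Nat.prime_dvd_prime_iff_eq hp (by norm_num)).1 (hp.dvd_of_dvd_pow h); omega
      · have := (Nat.prime_dvd_prime_iff_eq hp (by norm_num)).1 (hp.dvd_of_dvd_pow h); omega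
      · have := (Nat.prime_dvd_prime_iff_eq hp (by norm_num)).1 (hp.dvd_of_dvd_pow h); omega
      · have := (Nat.prime_dvd_prime_iff_eq hp (by norm_num)).1 h; omega
      · have := (Nat.prime_dvd_prime_iff_eq hp (by norm_num)).1 h; omega
    rcases h1 with rfl | rfl | rfl
    · exact pw5_model
    · exact pw7_model
    · exact pw11_model
  · intro g
    apply Pr.of_coprime
    refine Nat.Coprime.of_dvd_left (_root_.orderOf_dvd_natCard g) ?_
    rw [card_K0]
    exact ((Nat.Prime.coprime_iff_not_dvd hp).2 h).symm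

theorem exists_iso {S : Type u} [Group S] (h : Cfsg.Spor.IsoMcL S) : Nonempty (↥K0 ≃* S) := by
  obtain ⟨e⟩ := h
  obtain ⟨f⟩ := isoK0
  exact ⟨f.trans e.symm⟩

/-- **Ore's conjecture for `McL`** -/
theorem ore_McL {S : Type u} [Group S] (h : Cfsg.Spor.IsoMcL S) : AllC S := by
  obtain ⟨e⟩ := exists_iso h
  exact AllC.congr e ore_model

/-- **four involutions in `McL`** -/
theorem four_McL {S : Type u} [Group S] (h : Cfsg.Spor.IsoMcL S) : Inv4 S := by
  obtain ⟨e⟩ := exists_iso h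
  intro g
  have h1 := I4.map' e.toMonoidHom (four_model (e.symm g))
  have h2 : e.toMonoidHom (e.symm g) = g := e.apply_symm_apply g
  rwa [h2] at h1

/-- **products of two elements of order prime to `6` or `p` in `McL`** -/
theorem pw_McL {S : Type u} [Group S] (h : Cfsg.Spor.IsoMcL S) : Pw S := by
  obtain ⟨e⟩ := exists_iso h
  exact ⟨All.congr e pw_model.1, fun p hp h5 => All.congr e (pw_model.2 p hp h5)⟩

end Cfsg.Agent.H235.Ore.McL

private theorem dce_f6b38fd873e8 : _root_.True := by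
  try have : _root_.True := by simp only [_root_.Cfsg.Agent.H235.Ore.McL.L.eq_1]
  try have : _root_.True := by simp only [_root_.Cfsg.Agent.H235.Ore.McL.V.eq_1]
  exact _root_.True.intro
end
end
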