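import Cfsg.Agent.H235.Ore.HeCertA_m3
import Cfsg.Agent.H235.Ore.HeCertB
import Cfsg.Agent.H347.HX.Eng
import Cfsg.Agent.H713.Two.HeClasses
import Cfsg.Agent.H19.Odd.HeEl7
import Cfsg.Agent.H587.NR.He
import Cfsg.Agent.H134.Sq.Base_m3
import Cfsg.Agent.FastGrp
import Cfsg.Agent.Prune
set_option linter.all false
prune_inst 0x7ffffffffffbbfffffff7e7fffffdffffffcfffffffffbfbfffffbffffffeb7ffbe5fbafffeef8fffef7e2be78fc7b53ffffffffef6ffd7ffffffff45fffffdfffffbfbd71f7bf7edfff6ffffbfb7fffffffffffffffffffffffffffffffffffffffffffffff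
open scoped Cfsg.Agent.FastGrp

/-!
# The 33 conjugacy classes of the Held group; every element is a commutator and a product of four involutions (helper235)
-/

set_option autoImplicit false
set_option maxRecDepth 100000

namespace Cfsg.Agent.H235.Ore.He

open Subgroup
open Cfsg.Spor.He (Gen)
open Cfsg.Agent.SporadicB.HePerm (act wd phi phi_wd_apply allBelow of_allBelow)
open Cfsg.Agent.FixBN.HeStab Cfsg.Agent.KFacts.He.Lv Cfsg.Agent.CpAutHe.Cnt
open Cfsg.Agent.H235.Ore.HeEng Cfsg.Agent.H235.Ore.HeCert Cfsg.Agent.H235.Ore.ClassList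
open Cfsg.Agent.H713.Two.HeClasses (Nn Nn_conj Nn_wd fixP colP fixP_inv colP_inv isConj_pow')
open Cfsg.Agent.H153.Zeros.He17 (hasOrd_word W17 o17 card_cent_eq)
open Cfsg.Agent.H587.NR.He (wd_reverse)
open Cfsg.Agent.H777.Ore
open Cfsg.Agent.H19.Odd.HeCnt (XB XC)

/-! ### The class `7C` -/

theorem orb_eq (C : Subgroup Cfsg.Spor.He) (p : Fin 2058) (S : Finset ℕ) (hS : ∀ c ∈ C, (phi c p : ℕ) ∈ S) :
    ∃ o, Nat.card C = o * Nat.card ↥(st C p) ∧ o ≤ S.card := by
  let _ : MulAction C (Fin 2058) := MulAction.compHom (Fin 2058) (phi.comp C.subtype)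
  have hact : ∀ (c : C) (q : Fin 2058), c • q = phi (c : Cfsg.Spor.He) q := fun c q => rfl
  have h2 : MulAction.stabilizer C p = (st C p).subgroupOf C := by
    ext c
    rw [MulAction.mem_stabilizer_iff, Subgroup.mem_subgroupOf, mem_st, hact]
    exact ⟨fun h => ⟨c.2, h⟩, fun h => h.2⟩
  have h3 : Nat.card (MulAction.stabilizer C p) = Nat.card ↥(st C p) := by
    rw [h2]
    exact Nat.card_congr (Subgroup.subgroupOfEquivOfLe fun c hc => (mem_st.1 hc).1).toEquiv
  have h1 := (MulAction.stabilizer C p).card_mul_index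
  rw [MulAction.index_stabilizer, h3, mul_comm] at h1
  refine ⟨_, h1.symm, ?_⟩
  have h4 : (MulAction.orbit C p).ncard = ((fun y : Fin 2058 => (y : ℕ)) '' MulAction.orbit C p).ncard :=
    (Set.ncard_image_of_injective _ fun y z h => Fin.ext h).symm
  rw [h4, ← Set.ncard_coe_finset]
  apply Set.ncard_le_ncard _ S.finite_toSet
  rintro _ ⟨_, ⟨g, rfl⟩, rfl⟩
  exact hS g g.2

def s7C : Lv := ⟨1, [], [(2, 2)], 686⟩
def k7C : Kl := ⟨7, 796, [(0, 7, 3), (2, 253, 2), (6, 371, 2), (1, 86, 1)], []⟩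
def l7C : List Lv := [⟨1025, [(976, 4), (1060, 4), (1, 1)], [], 3⟩,
  ⟨0, [(113, 2), (430, 2), (158, 2), (1060, 2), (1025, 2), (347, 2)], [], 1⟩,
  ⟨32, [(430, 4), (158, 3), (113, 2)], [(1, 1)], 1⟩,
  ⟨8, [(1060, 3), (1135, 3), (142, 2)], [], 1⟩]
theorem v7C : vOk XC [] s7C = true := by decide +kernel
theorem n7C : cnt 2058 (tt XC s7C.fs s7C.ks) = 686 := by rw [tt_fast]; decide +kernel
theorem t7C : tt XC s7C.fs s7C.ks 7 = true := by decide +kernel
theorem kl7C : klOk XC 1 k7C = true := by rw [klOk_fast]; decide +kernel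
theorem r7C : run 7 XC l7C (nxm 7 XC [] 1) = true := by rw [run_fast]; decide +kernel

/-- `7C` -/
theorem b7C : Nat.card ↥(centralizer ({wd XC} : Set Cfsg.Spor.He)) ≤ 1029 := by
  have hC : ∀ c ∈ centralizer ({wd XC} : Set Cfsg.Spor.He), c * wd XC = wd XC * c := fun _ hc =>
    mem_centralizer_singleton_iff.1 hc
  obtain ⟨o, ho, hle⟩ := orb_eq (centralizer ({wd XC} : Set Cfsg.Spor.He)) 1
    (((Finset.range 2058).filter fun y => tt XC s7C.fs s7C.ks y = true).erase 7) (by
      intro c hc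
      rw [Finset.mem_erase, Finset.mem_filter, Finset.mem_range]
      exact ⟨ne_of_klOk (p := 1) (hC c hc) kl7C, (phi c 1).2,
        tt_spec (hC c hc) (fun _ hf => absurd hf List.not_mem_nil) v7C (by decide)⟩)
  rw [Finset.card_erase_of_mem (by
    rw [Finset.mem_filter, Finset.mem_range]
    exact ⟨by norm_num, t7C⟩), card_filter, n7C] at hle
  have h3 : Nat.card ↥(st (centralizer ({wd XC} : Set Cfsg.Spor.He)) 1) ≤ 3 := by
    refine (le_of_run l7C (nxm 7 XC [] 1) _ (fun c hc => hC c (mem_st.1 hc).1) (fun c hc => ?_) r7C).trans (by decide)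
    exact fx_nxm (p := 1) (hC c (mem_st.1 hc).1) (fun _ hf => absurd hf List.not_mem_nil) (mem_st.1 hc).2
  have h4 := Cfsg.Agent.H19.Odd.HeEl.dvdC
  rw [ho] at h4
  have h5 : 0 < Nat.card ↥(st (centralizer ({wd XC} : Set Cfsg.Spor.He)) 1) := Nat.card_pos
  have hcop : Nat.Coprime 343 (Nat.card ↥(st (centralizer ({wd XC} : Set Cfsg.Spor.He)) 1)) := by
    generalize Nat.card ↥(st (centralizer ({wd XC} : Set Cfsg.Spor.He)) 1) = n at h3 h5
    interval_cases n <;> decide
  have h6 : 343 ∣ o := hcop.dvd_of_dvd_mul_right h4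
  have h7 : o ≤ 343 := by
    obtain ⟨k, rfl⟩ := h6
    omega
  rw [ho]
  exact le_trans (Nat.mul_le_mul h7 h3) (by norm_num)

/-! ### Invariants -/

/-- the orbital number 2 -/
def c2P (y z : ℕ) : Bool := Nat.beq (colr y z) 2

theorem c2P_inv (g : Cfsg.Spor.He) (i j : Fin 2058) :
    c2P (phi g i : Fin 2058) (phi g j : Fin 2058) = c2P i j := by
  unfold c2P
  rw [colr_inv]

/-- the second invariant of an element of order `n` -/
noncomputable def J (n : ℕ) (x : Cfsg.Spor.He) : ℕ :=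
  if n = 21 then Nn colP (x ^ 3) * 5000 + Nn colP x
  else if n = 7 then Nn c2P x * 5000 + Nn colP x
  else if n = 14 ∨ n = 28 then Nn colP x
  else if n = 2 ∨ n = 3 ∨ n = 4 ∨ n = 6 ∨ n = 12 then Nn fixP x else 0

theorem J_conj (n : ℕ) {x y : Cfsg.Spor.He} (h : IsConj x y) : J n x = J n y := by
  unfold J
  rw [Nn_conj colP_inv h, Nn_conj colP_inv (isConj_pow' h 3), Nn_conj c2P_inv h, Nn_conj fixP_inv h]

theorem ord_conj {x y : Cfsg.Spor.He} (h : IsConj x y) : orderOf x = orderOf y := by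
  obtain ⟨c, rfl⟩ := isConj_iff.1 h
  exact ((MulAut.conj c).orderOf_eq x).symm

open Classical in
/-- order, second invariant, a bit -/
noncomputable def inv (a x : Cfsg.Spor.He) : ℕ × ℕ × ℕ :=
  (orderOf x, J (orderOf x) x, if IsConj a x ∨ IsConj (wd x21A) x then 1 else 0)

theorem inv_conj (a : Cfsg.Spor.He) {x y : Cfsg.Spor.He} (h : IsConj x y) : inv a x = inv a y := by
  unfold inv
  rw [ord_conj h, J_conj _ h]
  have h1 : (IsConj a x ∨ IsConj (wd x21A) x) ↔ (IsConj a y ∨ IsConj (wd x21A) y) :=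
    ⟨fun k => k.imp (fun k => k.trans h) fun k => k.trans h,
      fun k => k.imp (fun k => k.trans h.symm) fun k => k.trans h.symm⟩
  by_cases k : IsConj a x ∨ IsConj (wd x21A) x
  · rw [if_pos k, if_pos (h1.1 k)]
  · rw [if_neg k, if_neg fun t => k (h1.2 t)]

noncomputable def invC (a : Cfsg.Spor.He) : ConjClasses Cfsg.Spor.He → ℕ × ℕ × ℕ :=
  Quotient.lift (inv a) fun _ _ h => inv_conj a h

theorem J_fix {x : Cfsg.Spor.He} {n k : ℕ} (hn : n = 2 ∨ n = 3 ∨ n = 4 ∨ n = 6 ∨ n = 12) (hk : Nn fixP x = k) :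
    J n x = k := by
  unfold J
  rw [if_neg (by omega), if_neg (by omega), if_neg (by omega), if_pos hn, hk]

theorem J_zero {x : Cfsg.Spor.He} {n : ℕ} (h1 : ¬ (n = 21 ∨ n = 7 ∨ n = 14 ∨ n = 28))
    (hn : ¬ (n = 2 ∨ n = 3 ∨ n = 4 ∨ n = 6 ∨ n = 12)) : J n x = 0 := by
  unfold J
  rw [if_neg (by omega), if_neg (by omega), if_neg (by omega), if_neg hn]

theorem J_col {x : Cfsg.Spor.He} {n k : ℕ} (hn : n = 14 ∨ n = 28) (hk : Nn colP x = k) : J n x = k := by
  unfold J
  rw [if_neg (by omega), if_neg (by omega), if_pos hn, hk]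

theorem J_7 {x : Cfsg.Spor.He} {k m : ℕ} (hk : Nn c2P x = k) (hm : Nn colP x = m) : J 7 x = k * 5000 + m := by
  unfold J
  rw [if_neg (by norm_num), if_pos rfl, hk, hm]

theorem J_21 {x : Cfsg.Spor.He} {k m : ℕ} (hk : Nn colP (x ^ 3) = k) (hm : Nn colP x = m) : J 21 x = k * 5000 + m := by
  unfold J
  rw [if_pos rfl, hk, hm]

open Cfsg.Agent.KFacts.He.Fast (actF colrF act_fast colr_fast)

private theorem Nn_fix (w : List Gen) : Nn fixP (wd w) = cnt 2058 fun y => Nat.beq (actF w y) y := by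
  rw [Nn_wd, ← act_fast]
  rfl

private theorem Nn_col (w : List Gen) : Nn colP (wd w) = cnt 2058 fun y => Nat.beq (colrF y (actF w y)) 3 := by
  rw [Nn_wd, ← act_fast, ← colr_fast]
  rfl

private theorem Nn_c2 (w : List Gen) : Nn c2P (wd w) = cnt 2058 fun y => Nat.beq (colrF y (actF w y)) 2 := by
  rw [Nn_wd, ← act_fast, ← colr_fast]
  rfl

theorem o2A : orderOf (wd x2A) = 2 := hasOrd_word (by norm_num) [2] (by decide +kernel) (by decide +kernel)
theorem o2B : orderOf (wd x2B) = 2 := hasOrd_word (by norm_num) [2] (by decide +kernel) (by decide +kernel)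
theorem o3A : orderOf (wd x3A) = 3 := hasOrd_word (by norm_num) [3] (by decide +kernel) (by decide +kernel)
theorem o4A : orderOf (wd x4A) = 4 := hasOrd_word (by norm_num) [2] (by decide +kernel) (by decide +kernel)
theorem o4B : orderOf (wd x4B) = 4 := hasOrd_word (by norm_num) [2] (by decide +kernel) (by decide +kernel)
theorem o4C : orderOf (wd x4C) = 4 := hasOrd_word (by norm_num) [2] (by decide +kernel) (by decide +kernel)
theorem o5A : orderOf (wd x5A) = 5 := hasOrd_word (by norm_num) [5] (by decide +kernel) (by decide +kernel)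
theorem o6A : orderOf (wd x6A) = 6 := hasOrd_word (by norm_num) [2, 3] (by decide +kernel) (by decide +kernel)
theorem o6B : orderOf (wd x6B) = 6 := hasOrd_word (by norm_num) [2, 3] (by decide +kernel) (by decide +kernel)
theorem o7A : orderOf (wd x7A) = 7 := hasOrd_word (by norm_num) [7] (by decide +kernel) (by decide +kernel)
theorem o7D : orderOf (wd x7D) = 7 := hasOrd_word (by norm_num) [7] (by decide +kernel) (by decide +kernel)
theorem o8A : orderOf (wd x8A) = 8 := hasOrd_word (by norm_num) [2] (by decide +kernel) (by decide +kernel)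
theorem o10A : orderOf (wd x10A) = 10 := hasOrd_word (by norm_num) [2, 5] (by decide +kernel) (by decide +kernel)
theorem o12A : orderOf (wd x12A) = 12 := hasOrd_word (by norm_num) [2, 3] (by decide +kernel) (by decide +kernel)
theorem o12B : orderOf (wd x12B) = 12 := hasOrd_word (by norm_num) [2, 3] (by decide +kernel) (by decide +kernel)
theorem o14A : orderOf (wd x14A) = 14 := hasOrd_word (by norm_num) [2, 7] (by decide +kernel) (by decide +kernel)
theorem o14C : orderOf (wd x14C) = 14 := hasOrd_word (by norm_num) [2, 7] (by decide +kernel) (by decide +kernel)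
theorem o15A : orderOf (wd x15A) = 15 := hasOrd_word (by norm_num) [3, 5] (by decide +kernel) (by decide +kernel)
theorem o21A : orderOf (wd x21A) = 21 := hasOrd_word (by norm_num) [3, 7] (by decide +kernel) (by decide +kernel)
theorem o21C : orderOf (wd x21C) = 21 := hasOrd_word (by norm_num) [3, 7] (by decide +kernel) (by decide +kernel)
theorem o28A : orderOf (wd x28A) = 28 := hasOrd_word (by norm_num) [2, 7] (by decide +kernel) (by decide +kernel)
theorem o3B : orderOf (wd XB) = 3 := hasOrd_word (by norm_num) [3] (by decide +kernel) (by decide +kernel)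
theorem o7C : orderOf (wd XC) = 7 := hasOrd_word (by norm_num) [7] (by decide +kernel) (by decide +kernel)
theorem j2A : J 2 (wd x2A) = 154 := J_fix (by norm_num) (by rw [Nn_fix]; decide +kernel)
theorem j2B : J 2 (wd x2B) = 42 := J_fix (by norm_num) (by rw [Nn_fix]; decide +kernel)
theorem j3A : J 3 (wd x3A) = 42 := J_fix (by norm_num) (by rw [Nn_fix]; decide +kernel)
theorem j3B : J 3 (wd XB) = 0 := J_fix (by norm_num) (by rw [Nn_fix]; decide +kernel)
theorem j4A : J 4 (wd x4A) = 14 := J_fix (by norm_num) (by rw [Nn_fix]; decide +kernel)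
theorem j4B : J 4 (wd x4B) = 18 := J_fix (by norm_num) (by rw [Nn_fix]; decide +kernel)
theorem j4C : J 4 (wd x4C) = 2 := J_fix (by norm_num) (by rw [Nn_fix]; decide +kernel)
theorem j6A : J 6 (wd x6A) = 10 := J_fix (by norm_num) (by rw [Nn_fix]; decide +kernel)
theorem j6B : J 6 (wd x6B) = 0 := J_fix (by norm_num) (by rw [Nn_fix]; decide +kernel)
theorem j12A : J 12 (wd x12A) = 0 := J_fix (by norm_num) (by rw [Nn_fix]; decide +kernel)
theorem j12B : J 12 (wd x12B) = 2 := J_fix (by norm_num) (by rw [Nn_fix]; decide +kernel)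
theorem j5A : J 5 (wd x5A) = 0 := J_zero (by norm_num) (by norm_num)
theorem j8A : J 8 (wd x8A) = 0 := J_zero (by norm_num) (by norm_num)
theorem j10A : J 10 (wd x10A) = 0 := J_zero (by norm_num) (by norm_num)
theorem j15A : J 15 (wd x15A) = 0 := J_zero (by norm_num) (by norm_num)
theorem j14A : J 14 (wd x14A) = 224 := J_col (by norm_num) (by rw [Nn_col]; decide +kernel)
theorem j14A' : J 14 (wd x14A)⁻¹ = 28 := J_col (by norm_num) (by rw [← wd_reverse, Nn_col]; decide +kernel)
theorem j14C : J 14 (wd x14C) = 266 := J_col (by norm_num) (by rw [Nn_col]; decide +kernel)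
theorem j14C' : J 14 (wd x14C)⁻¹ = 70 := J_col (by norm_num) (by rw [← wd_reverse, Nn_col]; decide +kernel)
theorem j28A : J 28 (wd x28A) = 56 := J_col (by norm_num) (by rw [Nn_col]; decide +kernel)
theorem j28A' : J 28 (wd x28A)⁻¹ = 252 := J_col (by norm_num) (by rw [← wd_reverse, Nn_col]; decide +kernel)
theorem j7A : J 7 (wd x7A) = 1470000 := J_7 (k := 294) (m := 0) (by rw [Nn_c2]; decide +kernel) (by rw [Nn_col]; decide +kernel)
theorem j7A' : J 7 (wd x7A)⁻¹ = 1470588 := J_7 (k := 294) (m := 588) (by rw [← wd_reverse, Nn_c2]; decide +kernel)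
  (by rw [← wd_reverse, Nn_col]; decide +kernel)
theorem j7C : J 7 (wd XC) = 3430000 := J_7 (k := 686) (m := 0) (by rw [Nn_c2]; decide +kernel) (by rw [Nn_col]; decide +kernel)
theorem j7D : J 7 (wd x7D) = 980098 := J_7 (k := 196) (m := 98) (by rw [Nn_c2]; decide +kernel) (by rw [Nn_col]; decide +kernel)
theorem j7D' : J 7 (wd x7D)⁻¹ = 980294 := J_7 (k := 196) (m := 294) (by rw [← wd_reverse, Nn_c2]; decide +kernel)
  (by rw [← wd_reverse, Nn_col]; decide +kernel)
theorem j21A : J 21 (wd x21A) = 168 := J_21 (k := 0) (m := 168) (by rw [← wd_pw, Nn_col]; decide +kernel)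
  (by rw [Nn_col]; decide +kernel)
theorem j21C : J 21 (wd x21C) = 126 := J_21 (k := 0) (m := 126) (by rw [← wd_pw, Nn_col]; decide +kernel)
  (by rw [Nn_col]; decide +kernel)
theorem j21C' : J 21 (wd x21C)⁻¹ = 2940126 := J_21 (k := 588) (m := 126) (by rw [← wd_reverse, ← wd_pw, Nn_col]; decide +kernel)
  (by rw [← wd_reverse, Nn_col]; decide +kernel)
theorem j21B : J 21 (wd x21A ^ 2) = 168 := J_21 (k := 0) (m := 168) (by rw [← pow_mul, ← wd_pw, Nn_col]; decide +kernel)
  (by rw [← wd_pw, Nn_col]; decide +kernel)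

theorem o21B : orderOf (wd x21A ^ 2) = 21 := by rw [orderOf_pow, o21A]; norm_num

/-- the classes `21A` and `21B` -/
theorem chk21 : (allBelow 2058 fun y => bif Nat.beq (colr y (act (pw x21A 8) y)) 4 then
    (bif Nat.beq (colr y (act (pw x21A 2) y)) 2 then false else true) else true) = true := by
  rw [act_fast, colr_fast]
  decide +kernel

theorem nc21 : ¬ IsConj (wd x21A) (wd x21A ^ 2) := by
  intro h
  obtain ⟨c, hc⟩ := isConj_iff.1 h
  have key : ∀ k : ℕ, colr (phi c 28) (act (pw x21A (2 * k)) (phi c 28)) = colr 28 (act (pw x21A k) 28) := by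
    intro k
    have h1 : wd (pw x21A (2 * k)) * c = c * wd (pw x21A k) := by
      rw [wd_pw, wd_pw, pow_mul, ← hc, conj_pow, inv_mul_cancel_right]
    rw [act_eq, ← phi_mul_apply, h1, phi_mul_apply, colr_inv, ← act_eq]
    rfl
  have h4 := key 4
  have h1 := key 1
  have e4 : colr 28 (act (pw x21A 4) 28) = 4 := by decide +kernel
  have e1 : colr 28 (act (pw x21A 1) 28) = 2 := by decide +kernel
  have h2 := of_allBelow chk21 (phi c 28) (phi c 28).2
  rw [show 2 * 4 = 8 from rfl, e4] at h4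
  rw [show 2 * 1 = 2 from rfl, e1] at h1
  rw [h4, h1] at h2
  exact absurd h2 (by decide)

theorem inv_mk {a x : Cfsg.Spor.He} (ha : orderOf a = 17) {n j : ℕ} (ho : orderOf x = n) (hj : J n x = j)
    (h1 : n ≠ 17) (h2 : n ≠ 21 ∨ j ≠ 168) : inv a x = (n, j, 0) := by
  subst ho
  unfold inv
  rw [hj, if_neg]
  rintro (h | h)
  · exact h1 (by rw [← ord_conj h, ha])
  · have h3 := ord_conj h
    rw [o21A] at h3
    have h4 := J_conj 21 h
    rw [← h3, ← h4, j21A] at hj
    rcases h2 with h2 | h2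
    · exact h2 h3.symm
    · exact h2 hj.symm

/-- the list of the classes, with centralizer orders -/
noncomputable def L (a b : Cfsg.Spor.He) : List (Cfsg.Spor.He × ℕ) :=
  [(a, 17), (b, 17), (1, 4030387200), (wd x21A, 21), (wd x21A ^ 2, 21), (wd x2A, 161280), (wd x2B, 21504),
    (wd x3A, 7560), (wd XB, 504), (wd x4A, 672), (wd x4B, 384), (wd x4C, 128), (wd x6A, 72), (wd x6B, 24),
    (wd x12A, 12), (wd x12B, 12), (wd x5A, 300), (wd x8A, 16), (wd x10A, 20), (wd x15A, 15), (wd x14A, 56),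
    ((wd x14A)⁻¹, 56), (wd x14C, 14), ((wd x14C)⁻¹, 14), (wd x28A, 28), ((wd x28A)⁻¹, 28), (wd x7A, 1176),
    ((wd x7A)⁻¹, 1176), (wd XC, 1029), (wd x7D, 98), ((wd x7D)⁻¹, 98), (wd x21C, 21), ((wd x21C)⁻¹, 21)]
def V : List (ℕ × ℕ × ℕ) :=
  [(17, 0, 1), (17, 0, 0), (1, 0, 0), (21, 168, 1), (21, 168, 0), (2, 154, 0), (2, 42, 0), (3, 42, 0), (3, 0, 0),
    (4, 14, 0), (4, 18, 0), (4, 2, 0), (6, 10, 0), (6, 0, 0), (12, 0, 0), (12, 2, 0), (5, 0, 0), (8, 0, 0),
    (10, 0, 0), (15, 0, 0), (14, 224, 0), (14, 28, 0), (14, 266, 0), (14, 70, 0), (28, 56, 0), (28, 252, 0),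
    (7, 1470000, 0), (7, 1470588, 0), (7, 3430000, 0), (7, 980098, 0), (7, 980294, 0), (21, 126, 0),
    (21, 2940126, 0)]

theorem L_inv {a b : Cfsg.Spor.He} (ha : orderOf a = 17) (hb : orderOf b = 17) (hab : ¬ IsConj a b) :
    (L a b).map (fun p => inv a p.1) = V := by
  have hA : inv a a = (17, 0, 1) := by
    unfold inv
    rw [ha, J_zero (by norm_num) (by norm_num), if_pos (Or.inl (IsConj.refl a))]
  have hB : inv a b = (17, 0, 0) := by
    unfold inv
    rw [hb, J_zero (by norm_num) (by norm_num), if_neg]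
    rintro (h | h)
    · exact hab h
    · have h3 := ord_conj h
      rw [o21A, hb] at h3
      norm_num at h3
  have h1 : inv a 1 = (1, 0, 0) := inv_mk ha orderOf_one (J_zero (by norm_num) (by norm_num)) (by norm_num) (by norm_num)
  have hC : inv a (wd x21A) = (21, 168, 1) := by
    unfold inv
    rw [o21A, j21A, if_pos (Or.inr (IsConj.refl _))]
  have hD : inv a (wd x21A ^ 2) = (21, 168, 0) := by
    unfold inv
    rw [o21B, j21B, if_neg]
    rintro (h | h)
    · have h3 := ord_conj h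
      rw [ha, o21B] at h3
      norm_num at h3
    · exact nc21 h
  simp only [L, V, List.map_cons, List.map_nil, hA, hB, h1, hC, hD]
  rw [inv_mk ha (o2A) j2A (by norm_num) (by norm_num),
    inv_mk ha (o2B) j2B (by norm_num) (by norm_num),
    inv_mk ha (o3A) j3A (by norm_num) (by norm_num),
    inv_mk ha (o3B) j3B (by norm_num) (by norm_num),
    inv_mk ha (o4A) j4A (by norm_num) (by norm_num),
    inv_mk ha (o4B) j4B (by norm_num) (by norm_num),
    inv_mk ha (o4C) j4C (by norm_num) (by norm_num),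
    inv_mk ha (o6A) j6A (by norm_num) (by norm_num),
    inv_mk ha (o6B) j6B (by norm_num) (by norm_num),
    inv_mk ha (o12A) j12A (by norm_num) (by norm_num),
    inv_mk ha (o12B) j12B (by norm_num) (by norm_num),
    inv_mk ha (o5A) j5A (by norm_num) (by norm_num),
    inv_mk ha (o8A) j8A (by norm_num) (by norm_num),
    inv_mk ha (o10A) j10A (by norm_num) (by norm_num),
    inv_mk ha (o15A) j15A (by norm_num) (by norm_num),
    inv_mk ha (o14A) j14A (by norm_num) (by norm_num),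
    inv_mk ha ((orderOf_inv _).trans o14A) j14A' (by norm_num) (by norm_num),
    inv_mk ha (o14C) j14C (by norm_num) (by norm_num),
    inv_mk ha ((orderOf_inv _).trans o14C) j14C' (by norm_num) (by norm_num),
    inv_mk ha (o28A) j28A (by norm_num) (by norm_num),
    inv_mk ha ((orderOf_inv _).trans o28A) j28A' (by norm_num) (by norm_num),
    inv_mk ha (o7A) j7A (by norm_num) (by norm_num),
    inv_mk ha ((orderOf_inv _).trans o7A) j7A' (by norm_num) (by norm_num),
    inv_mk ha (o7C) j7C (by norm_num) (by norm_num),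
    inv_mk ha (o7D) j7D (by norm_num) (by norm_num),
    inv_mk ha ((orderOf_inv _).trans o7D) j7D' (by norm_num) (by norm_num),
    inv_mk ha (o21C) j21C (by norm_num) (by norm_num),
    inv_mk ha ((orderOf_inv _).trans o21C) j21C' (by norm_num) (by norm_num)]

theorem L_nodup {a b : Cfsg.Spor.He} (ha : orderOf a = 17) (hb : orderOf b = 17) (hab : ¬ IsConj a b) :
    ((L a b).map fun p => ConjClasses.mk p.1).Nodup := by
  apply List.Nodup.of_map (invC a)
  rw [List.map_map]
  have h : (L a b).map ((invC a) ∘ fun p => ConjClasses.mk p.1) = V := L_inv ha hb hab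
  rw [h]
  decide

theorem cent_mem {a : Cfsg.Spor.He} (h : a ∈ zpowers (wd W17)) (h1 : a ≠ 1) :
    Nat.card ↥(centralizer ({a} : Set Cfsg.Spor.He)) ≤ 17 := by
  obtain ⟨k, hk⟩ : ∃ k : ℤ, wd W17 = a ^ k := by
    have h17 : Fact (Nat.Prime 17) := ⟨by norm_num⟩
    have e : zpowers a = zpowers (wd W17) := by
      refine Subgroup.eq_of_le_of_card_ge (by rwa [zpowers_le]) ?_
      have h2 : Nat.card (zpowers a) ∣ 17 := by
        have := Subgroup.card_dvd_of_le (show zpowers a ≤ zpowers (wd W17) by rwa [zpowers_le])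
        rwa [Nat.card_zpowers (wd W17), o17] at this
      rcases (Nat.dvd_prime (by norm_num)).1 h2 with h3 | h3
      · rw [Nat.card_zpowers, orderOf_eq_one_iff] at h3
        exact absurd h3 h1
      · rw [h3, Nat.card_zpowers, o17]
    have h3 : wd W17 ∈ zpowers a := e ▸ mem_zpowers _
    obtain ⟨k, hk⟩ := mem_zpowers_iff.1 h3
    exact ⟨k, hk.symm⟩
  rw [← card_cent_eq]
  have hle : centralizer ({a} : Set Cfsg.Spor.He) ≤ centralizer ({wd W17} : Set Cfsg.Spor.He) := by
    intro y hy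
    rw [mem_centralizer_singleton_iff] at hy ⊢
    rw [hk]
    exact ((show Commute y a from hy).zpow_right k).eq
  exact Nat.le_of_dvd Nat.card_pos (Subgroup.card_dvd_of_le hle)

theorem L_cent {a b : Cfsg.Spor.He} (ha : Nat.card ↥(centralizer ({a} : Set Cfsg.Spor.He)) ≤ 17)
    (hb : Nat.card ↥(centralizer ({b} : Set Cfsg.Spor.He)) ≤ 17) :
    ∀ p ∈ L a b, Nat.card ↥(centralizer ({p.1} : Set Cfsg.Spor.He)) ≤ p.2 := by
  have h1 : Nat.card ↥(centralizer ({1} : Set Cfsg.Spor.He)) ≤ 4030387200 := by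
    rw [← card_he]
    exact Nat.le_of_dvd Nat.card_pos (Subgroup.card_subgroup_dvd_card _)
  have hD : Nat.card ↥(centralizer ({wd x21A ^ 2} : Set Cfsg.Spor.He)) ≤ 21 := by
    have hle : centralizer ({wd x21A ^ 2} : Set Cfsg.Spor.He) ≤ centralizer ({wd x21A} : Set Cfsg.Spor.He) := by
      intro y hy
      rw [mem_centralizer_singleton_iff] at hy ⊢
      have e : wd x21A = (wd x21A ^ 2) ^ 11 := by
        rw [← pow_mul, show 2 * 11 = 21 + 1 from rfl, pow_succ, ← o21A, pow_orderOf_eq_one, one_mul]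
      rw [e]
      exact ((show Commute y (wd x21A ^ 2) from hy).pow_right 11).eq
    exact (Nat.le_of_dvd Nat.card_pos (Subgroup.card_dvd_of_le hle)).trans b21A
  intro p hp
  simp only [L, List.mem_cons, List.not_mem_nil, or_false] at hp
  rcases hp with rfl | rfl | rfl | rfl | rfl | rfl | rfl | rfl | rfl | rfl | rfl | rfl | rfl | rfl | rfl | rfl | rfl | rfl | rfl | rfl | rfl | rfl | rfl | rfl | rfl | rfl | rfl | rfl | rfl | rfl | rfl | rfl | rfl
  · exact ha
  · exact hb
  · exact h1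
  · exact b21A
  · exact hD
  · exact b2A
  · exact b2B
  · exact b3A
  · exact Cfsg.Agent.H19.Odd.HeCnt.cardB
  · exact b4A
  · exact b4B
  · exact b4C
  · exact b6A
  · exact b6B
  · exact b12A
  · exact b12B
  · exact b5A
  · exact b8A
  · exact b10A
  · exact b15A
  · exact b14A
  · exact (card_cent_inv _).le.trans b14A
  · exact b14C
  · exact (card_cent_inv _).le.trans b14C
  · exact b28A
  · exact (card_cent_inv _).le.trans b28A
  · exact b7A
  · exact (card_cent_inv _).le.trans b7A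
  · exact b7C
  · exact b7D
  · exact (card_cent_inv _).le.trans b7D
  · exact b21C
  · exact (card_cent_inv _).le.trans b21C

/-! ### Witnesses -/

theorem isC_of {X A B : List Gen} (h : chkB X (A ++ (B ++ (A.reverse ++ B.reverse))) = true) : IsC (wd X) := by
  have h1 := eq_of_chkB h
  rw [wd_append, wd_append, wd_append, wd_reverse, wd_reverse] at h1
  exact ⟨wd A, wd B, by rw [h1]; group⟩

theorem sq_of {S : List Gen} (h : chkB (S ++ S) [] = true) : wd S * wd S = 1 := by
  have h1 := eq_of_chkB h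
  rwa [wd_append, wd_nil] at h1

theorem i4_of {X S T U V : List Gen} (h : chkB X (S ++ (T ++ (U ++ V))) = true) (hS : chkB (S ++ S) [] = true)
    (hT : chkB (T ++ T) [] = true) (hU : chkB (U ++ U) [] = true) (hV : chkB (V ++ V) [] = true) : I4 (wd X) := by
  have h1 := eq_of_chkB h
  rw [wd_append, wd_append, wd_append] at h1
  exact ⟨wd S, wd T, wd U, wd V, sq_of hS, sq_of hT, sq_of hU, sq_of hV, by rw [h1, mul_assoc, mul_assoc]⟩

theorem I4.inv' {G : Type*} [Group G] {g : G} (h : I4 g) : I4 g⁻¹ := by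
  obtain ⟨a, b, c, d, ha, hb, hc, hd, rfl⟩ := h
  refine ⟨d, c, b, a, hd, hc, hb, ha, ?_⟩
  rw [mul_inv_rev, mul_inv_rev, mul_inv_rev, inv_eq_of_mul_eq_one_left ha, inv_eq_of_mul_eq_one_left hb,
    inv_eq_of_mul_eq_one_left hc, inv_eq_of_mul_eq_one_left hd, mul_assoc, mul_assoc]

theorem I4.of_isConj' {G : Type*} [Group G] {g g' : G} (h : I4 g) (e : IsConj g g') : I4 g' := by
  obtain ⟨x, rfl⟩ := isConj_iff.1 e
  obtain ⟨a, b, c, d, ha, hb, hc, hd, rfl⟩ := h
  have key : ∀ u : G, u * u = 1 → (x * u * x⁻¹) * (x * u * x⁻¹) = 1 := fun u hu => by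
    rw [show x * u * x⁻¹ * (x * u * x⁻¹) = x * (u * u) * x⁻¹ by group, hu, mul_one, mul_inv_cancel]
  exact ⟨x * a * x⁻¹, x * b * x⁻¹, x * c * x⁻¹, x * d * x⁻¹, key a ha, key b hb, key c hc, key d hd, by group⟩

theorem c2A : IsC (wd x2A) := isC_of (A := [.b, .a, .g, .b])
  (B := [.f, .c]) (by decide +kernel)
theorem f2A : I4 (wd x2A) := i4_of (S := [.a]) (T := [])
  (U := []) (V := []) (by decide +kernel) (by decide +kernel) (by decide +kernel)
  (by decide +kernel) (by decide +kernel)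
theorem c2B : IsC (wd x2B) := isC_of (A := [.e, .d, .f, .d, .e])
  (B := [.e, .d, .g, .d, .e]) (by decide +kernel)
theorem f2B : I4 (wd x2B) := i4_of (S := [.d]) (T := [])
  (U := []) (V := []) (by decide +kernel) (by decide +kernel) (by decide +kernel)
  (by decide +kernel) (by decide +kernel)
theorem c3A : IsC (wd x3A) := isC_of (A := [.e])
  (B := [.d]) (by decide +kernel)
theorem f3A : I4 (wd x3A) := i4_of (S := [.d]) (T := [.e])
  (U := []) (V := []) (by decide +kernel) (by decide +kernel) (by decide +kernel)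
  (by decide +kernel) (by decide +kernel)
theorem c4A : IsC (wd x4A) := isC_of (A := [.c, .d, .b, .g, .c, .d, .c, .e, .a, .d, .g, .c, .d, .c, .g, .b, .d, .c])
  (B := [.c, .d, .b, .g, .c, .d, .c, .d, .c, .d, .c, .b, .c, .d, .c, .g, .b, .d, .c]) (by decide +kernel)
theorem f4A : I4 (wd x4A) := i4_of (S := [.a]) (T := [.b])
  (U := []) (V := []) (by decide +kernel) (by decide +kernel) (by decide +kernel)
  (by decide +kernel) (by decide +kernel)
theorem c4B : IsC (wd x4B) := isC_of (A := [.d, .f, .g, .d])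
  (B := [.g]) (by decide +kernel)
theorem f4B : I4 (wd x4B) := i4_of (S := [.f]) (T := [.g])
  (U := []) (V := []) (by decide +kernel) (by decide +kernel) (by decide +kernel)
  (by decide +kernel) (by decide +kernel)
theorem c4C : IsC (wd x4C) := isC_of (A := [.c, .d, .g, .a, .b, .c, .d, .f, .g, .c, .d, .g, .c, .g, .f, .d, .c, .b, .a, .g, .d, .c])
  (B := [.c, .d, .g, .a, .b, .c, .d, .f, .g, .f, .a, .d, .c, .a, .d, .g, .f, .d, .c, .b, .a, .g, .d, .c]) (by decide +kernel)
theorem f4C : I4 (wd x4C) := i4_of (S := [.f]) (T := [.g])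
  (U := [.b]) (V := []) (by decide +kernel) (by decide +kernel) (by decide +kernel)
  (by decide +kernel) (by decide +kernel)
theorem c5A : IsC (wd x5A) := isC_of (A := [.d])
  (B := [.c, .d, .c]) (by decide +kernel)
theorem f5A : I4 (wd x5A) := i4_of (S := [.d]) (T := [.c, .d, .c, .d, .c, .d, .c])
  (U := []) (V := []) (by decide +kernel) (by decide +kernel) (by decide +kernel)
  (by decide +kernel) (by decide +kernel)
theorem c6A : IsC (wd x6A) := isC_of (A := [.f, .d, .e, .d, .c, .g, .e, .d, .f])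
  (B := [.f, .d, .e, .f, .b, .a, .b, .e, .d, .f]) (by decide +kernel)
theorem f6A : I4 (wd x6A) := i4_of (S := [.c, .d, .c, .d, .c, .d, .c, .d, .c]) (T := [.c, .e, .c])
  (U := []) (V := []) (by decide +kernel) (by decide +kernel) (by decide +kernel)
  (by decide +kernel) (by decide +kernel)
theorem c6B : IsC (wd x6B) := isC_of (A := [.g, .c, .a])
  (B := [.a, .f, .b]) (by decide +kernel)
theorem f6B : I4 (wd x6B) := i4_of (S := [.d, .a, .b, .a, .d]) (T := [.d, .c, .d, .c, .d, .c, .d, .c, .d])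
  (U := []) (V := []) (by decide +kernel) (by decide +kernel) (by decide +kernel)
  (by decide +kernel) (by decide +kernel)
theorem c7A : IsC (wd x7A) := isC_of (A := [.d, .g, .d, .e])
  (B := [.d, .f, .g]) (by decide +kernel)
theorem f7A : I4 (wd x7A) := i4_of (S := [.d]) (T := [.f])
  (U := [.g]) (V := []) (by decide +kernel) (by decide +kernel) (by decide +kernel)
  (by decide +kernel) (by decide +kernel)
theorem c7D : IsC (wd x7D) := isC_of (A := [.f, .g, .d, .g, .f, .d, .e, .c, .d, .e, .c, .b, .g, .e, .d, .f, .g, .d, .g, .f])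
  (B := [.f, .g, .d, .g, .f, .d, .e, .d, .g, .d, .g, .c, .f, .e, .d, .f, .g, .d, .g, .f]) (by decide +kernel)
theorem f7D : I4 (wd x7D) := i4_of (S := [.d, .c, .g, .d, .c, .d, .g, .d, .c, .d, .g, .c, .d]) (T := [.d, .c, .g, .d, .c, .g, .f, .e, .g, .d, .c, .d, .g, .e, .f, .g, .c, .d, .g, .c, .d])
  (U := [.d, .c, .g, .b, .f, .c, .f, .b, .g, .c, .d]) (V := []) (by decide +kernel) (by decide +kernel) (by decide +kernel)
  (by decide +kernel) (by decide +kernel)
theorem c8A : IsC (wd x8A) := isC_of (A := [.a, .b, .c, .g, .c, .a, .b, .d, .c, .b, .a])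
  (B := [.a, .b, .c, .g, .d, .e, .b, .c, .g, .c, .b, .a]) (by decide +kernel)
theorem f8A : I4 (wd x8A) := i4_of (S := [.b, .d, .c, .d, .c, .f, .b, .f, .a, .f, .b, .f, .c, .d, .c, .d, .b]) (T := [.b, .d, .a, .f, .g, .f, .a, .d, .b])
  (U := [.b, .d, .c, .a, .c, .d, .c, .a, .c, .d, .b]) (V := []) (by decide +kernel) (by decide +kernel) (by decide +kernel)
  (by decide +kernel) (by decide +kernel)
theorem c10A : IsC (wd x10A) := isC_of (A := [.g, .d, .c, .d, .c, .g, .d, .c, .d, .g])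
  (B := [.g, .d, .c, .d, .g, .b, .a, .d, .f, .b, .d, .c, .d, .g]) (by decide +kernel)
theorem f10A : I4 (wd x10A) := i4_of (S := [.c]) (T := [.d])
  (U := []) (V := []) (by decide +kernel) (by decide +kernel) (by decide +kernel)
  (by decide +kernel) (by decide +kernel)
theorem c12A : IsC (wd x12A) := isC_of (A := [.f, .g, .c, .d, .f, .g, .d, .f])
  (B := [.f, .d, .g, .d, .b, .g, .d, .f]) (by decide +kernel)
theorem f12A : I4 (wd x12A) := i4_of (S := [.b]) (T := [.f])
  (U := [.g]) (V := [.c]) (by decide +kernel) (by decide +kernel) (by decide +kernel)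
  (by decide +kernel) (by decide +kernel)
theorem c12B : IsC (wd x12B) := isC_of (A := [.e, .d, .g, .f, .d, .g, .b, .f, .e, .d, .f, .g, .d, .e])
  (B := [.e, .d, .g, .f, .d, .g, .d, .c, .e, .b, .d, .c, .g, .d, .f, .g, .d, .e]) (by decide +kernel)
theorem f12B : I4 (wd x12B) := i4_of (S := [.b]) (T := [.c])
  (U := [.d]) (V := []) (by decide +kernel) (by decide +kernel) (by decide +kernel)
  (by decide +kernel) (by decide +kernel)
theorem c14A : IsC (wd x14A) := isC_of (A := [.e, .d, .g, .a, .b, .a, .f, .g, .b, .g, .d, .e])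
  (B := [.e, .d, .g, .d, .c, .e, .g, .d, .e]) (by decide +kernel)
theorem f14A : I4 (wd x14A) := i4_of (S := [.d, .f, .d]) (T := [.d, .e, .g, .e, .d])
  (U := [.c, .d, .c, .d, .c, .d, .c, .d, .c]) (V := []) (by decide +kernel) (by decide +kernel) (by decide +kernel)
  (by decide +kernel) (by decide +kernel)
theorem c14C : IsC (wd x14C) := isC_of (A := [.e, .g, .a, .d, .a, .b, .g, .c, .b, .a, .g, .e])
  (B := [.e, .g, .a, .f, .d, .c, .f, .a, .g, .e]) (by decide +kernel)
theorem f14C : I4 (wd x14C) := i4_of (S := [.b, .e, .g, .d, .c, .g, .f, .d, .f, .g, .c, .d, .g, .e, .b]) (T := [.b, .e, .g, .a, .e, .c, .e, .a, .g, .e, .b])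
  (U := [.b, .e, .g, .d, .f, .c, .b, .f, .c, .f, .b, .c, .f, .d, .g, .e, .b]) (V := [.b, .e, .g, .d, .c, .f, .c, .d, .g, .e, .b]) (by decide +kernel) (by decide +kernel) (by decide +kernel)
  (by decide +kernel) (by decide +kernel)
theorem c15A : IsC (wd x15A) := isC_of (A := [.g, .d, .c, .b, .d, .a, .g, .c, .d, .g])
  (B := [.g, .d, .c, .b, .e, .c, .d, .e, .b, .c, .d, .g]) (by decide +kernel)
theorem f15A : I4 (wd x15A) := i4_of (S := [.g, .c, .d, .c, .g]) (T := [.d])
  (U := [.b]) (V := []) (by decide +kernel) (by decide +kernel) (by decide +kernel)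
  (by decide +kernel) (by decide +kernel)
theorem c21A : IsC (wd x21A) := isC_of (A := [.c, .d, .e, .d, .a])
  (B := [.a, .b, .d]) (by decide +kernel)
theorem f21A : I4 (wd x21A) := i4_of (S := [.e, .d, .b, .c, .b, .e, .d, .c, .b, .e, .c, .d, .c, .e, .b, .c, .d, .e, .b, .c, .b, .d, .e]) (T := [.e, .d, .b, .c, .b, .e, .d, .c, .d, .c, .d, .c, .d, .c, .d, .e, .b, .c, .b, .d, .e])
  (U := []) (V := []) (by decide +kernel) (by decide +kernel) (by decide +kernel)
  (by decide +kernel) (by decide +kernel)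
theorem c21C : IsC (wd x21C) := isC_of (A := [.d, .b, .e, .f, .d, .e, .c, .f, .e, .b, .d])
  (B := [.d, .b, .e, .d, .b, .c, .b, .f, .e, .b, .d]) (by decide +kernel)
theorem f21C : I4 (wd x21C) := i4_of (S := [.g, .d, .e, .g, .d, .g, .e, .d, .g]) (T := [.g, .b, .g])
  (U := [.g, .f, .g]) (V := [.c, .d, .c]) (by decide +kernel) (by decide +kernel) (by decide +kernel)
  (by decide +kernel) (by decide +kernel)
theorem c28A : IsC (wd x28A) := isC_of (A := [.g, .c, .d, .c, .d, .c, .d, .c, .a, .b, .d, .f, .c, .d, .c, .d, .c, .g])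
  (B := [.g, .c, .d, .c, .g, .b, .c, .d, .c, .d, .c, .d, .c, .g]) (by decide +kernel)
theorem f28A : I4 (wd x28A) := i4_of (S := [.g, .b, .d, .b, .d, .b, .g]) (T := [.g, .b, .g, .b, .g])
  (U := [.g, .b, .d, .c, .f, .d, .c, .d, .c, .d, .c, .d, .f, .c, .d, .b, .g]) (V := [.g, .b, .d, .f, .d, .b, .g]) (by decide +kernel) (by decide +kernel) (by decide +kernel)
  (by decide +kernel) (by decide +kernel)
theorem c3B : IsC (wd XB) := isC_of (A := [.c])
  (B := [.b]) (by decide +kernel)
theorem f3B : I4 (wd XB) := i4_of (S := [.b]) (T := [.c])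
  (U := []) (V := []) (by decide +kernel) (by decide +kernel) (by decide +kernel)
  (by decide +kernel) (by decide +kernel)
theorem c7C : IsC (wd XC) := isC_of (A := [.b, .g, .e, .c, .a, .d, .f, .d, .e, .g, .b])
  (B := [.b, .g, .e, .d]) (by decide +kernel)
theorem f7C : I4 (wd XC) := i4_of (S := [.a, .c, .d, .c, .b, .c, .d, .g, .e, .c, .e, .g, .d, .c, .b, .c, .d, .c, .a]) (T := [.a, .c, .d, .c, .b, .c, .d, .g, .e, .b, .c, .d, .c, .a, .e, .a, .c, .d, .c, .b, .e, .g, .d, .c, .b, .c, .d, .c, .a])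
  (U := [.a, .c, .d, .c, .b, .c, .d, .g, .e, .g, .d, .c, .f, .g, .d, .g, .f, .c, .d, .g, .e, .g, .d, .c, .b, .c, .d, .c, .a]) (V := []) (by decide +kernel) (by decide +kernel) (by decide +kernel)
  (by decide +kernel) (by decide +kernel)
theorem c21B : IsC (wd x21A ^ 2) := by
  rw [← wd_pw]
  exact isC_of (A := [.d, .a, .b]) (B := [.d, .c, .b]) (by decide +kernel)

theorem f21B : I4 (wd x21A ^ 2) := by
  rw [← wd_pw]
  exact i4_of (S := [.c, .e, .c]) (T := [.b, .e, .c, .e, .b]) (U := [.c, .d, .c, .d, .c, .d, .c]) (V := []) (by decide +kernel) (by decide +kernel)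
    (by decide +kernel) (by decide +kernel) (by decide +kernel)

/-- an element of the normalizer of `⟨wd W17⟩` squaring it -/
def t17 : List Gen := [.d, .b, .g, .c, .d, .a, .f, .e, .g, .a, .c, .g, .e, .f, .d, .a, .b, .e, .c, .d, .b, .g, .e, .d, .f, .c, .a, .e, .d, .b, .a, .e, .a, .f, .c, .b, .d, .b, .g, .a, .b, .e, .d, .c, .g, .d, .c, .d]

theorem t17_conj : wd t17 * wd W17 * (wd t17)⁻¹ = wd W17 ^ 2 := by
  have h := eq_of_chkB (show chkB (t17 ++ W17) (pw W17 2 ++ t17) = true by decide +kernel)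
  rw [wd_append, wd_append, wd_pw] at h
  rw [h, mul_inv_cancel_right]

theorem c17 {a : Cfsg.Spor.He} (h : a ∈ zpowers (wd W17)) : IsC a := by
  obtain ⟨k, rfl⟩ := mem_zpowers_iff.1 h
  refine ⟨wd t17, wd W17 ^ k, ?_⟩
  rw [← conj_zpow, t17_conj, ← zpow_natCast, ← zpow_mul, ← zpow_neg, ← zpow_add]
  congr 1
  push_cast
  ring

theorem f17 {a : Cfsg.Spor.He} (h : a ∈ zpowers (wd W17)) : I4 a := by
  obtain ⟨k, rfl⟩ := mem_zpowers_iff.1 h
  have hs : wd [.c, .f] * wd [.c, .f] = 1 := sq_of (by decide +kernel)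
  have hi : wd [.c, .f] * wd W17 * (wd [.c, .f])⁻¹ = (wd W17)⁻¹ := by
    have h := eq_of_chkB (show chkB (([.c, .f] : List Gen) ++ W17) (W17.reverse ++ ([.c, .f] : List Gen)) = true by decide +kernel)
    rw [wd_append, wd_append, wd_reverse] at h
    rw [h, mul_inv_cancel_right]
  have hk : wd [.c, .f] * wd W17 ^ k * (wd [.c, .f])⁻¹ = (wd W17 ^ k)⁻¹ := by
    rw [← conj_zpow, hi, inv_zpow]
  have hs' : (wd [.c, .f])⁻¹ = wd [.c, .f] := inv_eq_of_mul_eq_one_left hs
  refine ⟨wd W17 ^ k * wd [.c, .f], wd [.c, .f], 1, 1, ?_, hs, mul_one 1, mul_one 1, ?_⟩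
  · rw [hs'] at hk
    calc wd W17 ^ k * wd [.c, .f] * (wd W17 ^ k * wd [.c, .f])
        = wd W17 ^ k * (wd [.c, .f] * wd W17 ^ k * wd [.c, .f]) := by group
      _ = 1 := by rw [hk, mul_inv_cancel]
  · rw [mul_one, mul_one, mul_assoc, hs, mul_one]

theorem exists_pair : ∃ a b : Cfsg.Spor.He, a ∈ zpowers (wd W17) ∧ b ∈ zpowers (wd W17) ∧ a ≠ 1 ∧ b ≠ 1 ∧ ¬ IsConj a b := by
  classical
  have hfin : Finite Cfsg.Spor.He := finite_he
  have hA : Cfsg.Agent.H504.ZeroTI.CC (Subgroup.zpowers (wd W17)) :=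
    Cfsg.Agent.H504.Zeros.cc_of_prime (by norm_num) o17 card_cent_eq
  have cA : Nat.card (Subgroup.zpowers (wd W17)) = 17 := by rw [Nat.card_zpowers, o17]
  have he : Cfsg.Agent.H504.ZeroTI.eIdx (Subgroup.zpowers (wd W17)) = 8 := by
    rw [Cfsg.Agent.H504.Zeros.eIdx_eq_mod hA (by rw [cA]; norm_num) (n := 237081600) (by rw [card_he, cA]), cA]
  obtain ⟨s, hs, hs2, hsA⟩ := Cfsg.Agent.H504.Zeros.exists_reps (m := 2) hA (by rw [cA, he])
  obtain ⟨a, b, hab, hs3⟩ := Finset.card_eq_two.1 hs2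
  have ha : a ∈ s := by rw [hs3]; simp
  have hb : b ∈ s := by rw [hs3]; simp
  exact ⟨a, b, (hsA a ha).1, (hsA b hb).1, (hsA a ha).2, (hsA b hb).2, fun h => hab (hs a ha b hb h)⟩

theorem ord_mem {a : Cfsg.Spor.He} (h : a ∈ zpowers (wd W17)) (h1 : a ≠ 1) : orderOf a = 17 := by
  have h2 : Nat.card (zpowers a) ∣ 17 := by
    have := Subgroup.card_dvd_of_le (show zpowers a ≤ zpowers (wd W17) by rwa [zpowers_le])
    rwa [Nat.card_zpowers (wd W17), o17] at this
  rcases (Nat.dvd_prime (by norm_num)).1 h2 with h3 | h3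
  · rw [Nat.card_zpowers, orderOf_eq_one_iff] at h3
    exact absurd h3 h1
  · rwa [Nat.card_zpowers] at h3

/-- **The conjugacy classes of the Held group.** -/
theorem classes : ∃ a b : Cfsg.Spor.He, a ∈ zpowers (wd W17) ∧ b ∈ zpowers (wd W17) ∧
    (∀ p ∈ L a b, Nat.card ↥(centralizer ({p.1} : Set Cfsg.Spor.He)) ≤ p.2) ∧
    ((L a b).map fun p => ConjClasses.mk p.1).Nodup ∧ ∀ g : Cfsg.Spor.He, ∃ p ∈ L a b, IsConj p.1 g := by
  have hfin : Finite Cfsg.Spor.He := finite_he
  obtain ⟨a, b, ha, hb, ha1, hb1, hab⟩ := exists_pair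
  have hc := L_cent (cent_mem ha ha1) (cent_mem hb hb1)
  have hd := L_nodup (ord_mem ha ha1) (ord_mem hb hb1) hab
  refine ⟨a, b, ha, hb, hc, hd, complete (L a b) hc hd ?_⟩
  rw [card_he]
  simp only [L, List.map_cons, List.map_nil]
  decide +kernel

theorem all_model (P : Cfsg.Spor.He → Prop) (hP : ∀ x y : Cfsg.Spor.He, IsConj x y → P x → P y)
    (h17 : ∀ a ∈ zpowers (wd W17), P a) (hL : ∀ a b : Cfsg.Spor.He, P a → P b → ∀ p ∈ L a b, P p.1) (g : Cfsg.Spor.He) : P g := by
  obtain ⟨a, b, ha, hb, -, -, h⟩ := classes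
  obtain ⟨p, hp, hpg⟩ := h g
  exact hP _ _ hpg (hL a b (h17 a ha) (h17 b hb) p hp)

theorem ore_model : AllC Cfsg.Spor.He := by
  refine all_model IsC (fun x y h k => k.of_isConj h) (fun a ha => c17 ha) fun a b ha hb p hp => ?_
  simp only [L, List.mem_cons, List.not_mem_nil, or_false] at hp
  rcases hp with rfl | rfl | rfl | rfl | rfl | rfl | rfl | rfl | rfl | rfl | rfl | rfl | rfl | rfl | rfl | rfl | rfl | rfl | rfl | rfl | rfl | rfl | rfl | rfl | rfl | rfl | rfl | rfl | rfl | rfl | rfl | rfl | rfl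
  · exact ha
  · exact hb
  · exact isC_one
  · exact c21A
  · exact c21B
  · exact c2A
  · exact c2B
  · exact c3A
  · exact c3B
  · exact c4A
  · exact c4B
  · exact c4C
  · exact c6A
  · exact c6B
  · exact c12A
  · exact c12B
  · exact c5A
  · exact c8A
  · exact c10A
  · exact c15A
  · exact c14A
  · exact c14A.inv
  · exact c14C
  · exact c14C.inv
  · exact c28A
  · exact c28A.inv
  · exact c7A
  · exact c7A.inv
  · exact c7C
  · exact c7D
  · exact c7D.inv
  · exact c21C
  · exact c21C.inv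

theorem four_model : Inv4 Cfsg.Spor.He := by
  refine all_model I4 (fun x y h k => I4.of_isConj' k h) (fun a ha => f17 ha) fun a b ha hb p hp => ?_
  simp only [L, List.mem_cons, List.not_mem_nil, or_false] at hp
  rcases hp with rfl | rfl | rfl | rfl | rfl | rfl | rfl | rfl | rfl | rfl | rfl | rfl | rfl | rfl | rfl | rfl | rfl | rfl | rfl | rfl | rfl | rfl | rfl | rfl | rfl | rfl | rfl | rfl | rfl | rfl | rfl | rfl | rfl
  · exact ha
  · exact hb
  · exact ⟨1, 1, 1, 1, mul_one 1, mul_one 1, mul_one 1, mul_one 1, by simp⟩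
  · exact f21A
  · exact f21B
  · exact f2A
  · exact f2B
  · exact f3A
  · exact f3B
  · exact f4A
  · exact f4B
  · exact f4C
  · exact f6A
  · exact f6B
  · exact f12A
  · exact f12B
  · exact f5A
  · exact f8A
  · exact f10A
  · exact f15A
  · exact f14A
  · exact I4.inv' f14A
  · exact f14C
  · exact I4.inv' f14C
  · exact f28A
  · exact I4.inv' f28A
  · exact f7A
  · exact I4.inv' f7A
  · exact f7C
  · exact f7D
  · exact I4.inv' f7D
  · exact f21C
  · exact I4.inv' f21C

/-- **Ore's conjecture for `He`** -/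
theorem ore_He {S : Type*} [Group S] (h : Cfsg.Spor.IsoHe S) : AllC S := by
  obtain ⟨e⟩ := h
  exact AllC.congr e.symm ore_model

/-- **four involutions in `He`** -/
theorem four_He {S : Type*} [Group S] (h : Cfsg.Spor.IsoHe S) : Inv4 S := by
  obtain ⟨e⟩ := h
  intro g
  obtain ⟨a, b, c, d, ha, hb, hc, hd, hg⟩ := four_model (e g)
  refine ⟨e.symm a, e.symm b, e.symm c, e.symm d, ?_, ?_, ?_, ?_, ?_⟩
  · rw [← map_mul, ha, map_one]
  · rw [← map_mul, hb, map_one]
  · rw [← map_mul, hc, map_one]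
  · rw [← map_mul, hd, map_one]
  · rw [← map_mul, ← map_mul, ← map_mul, ← hg, MulEquiv.symm_apply_apply]

end Cfsg.Agent.H235.Ore.He

private theorem dce_9448d75f882a : _root_.True := by
  try have : _root_.True := by simp only [_root_.Cfsg.Agent.H235.Ore.He.V.eq_1]
  try have : _root_.True := by simp only [_root_.Cfsg.Agent.H235.Ore.He.L.eq_1]
  exact _root_.True.intro
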