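import Cfsg.Agent.H235.Ore.HeCertB
import Cfsg.Agent.Prune
set_option linter.all false

section
prune_inst 0x7f00000000000000000000000000000000000000000000000000000000000000000000000000000000000000000000000000000000000000000000000000000000000000000000000000000000000000003fffffffffffffffffffffffffffbeffbdffffffff

-- part: H235/Ore/HeCertA
section
set_option linter.all false

/-!
# Centralizers in the Held group: certificates (helper235)
-/

set_option autoImplicit false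
set_option maxRecDepth 100000

namespace Cfsg.Agent.H235.Ore.HeCert

open Subgroup
open Cfsg.Spor Cfsg.Spor.He Cfsg.Agent.SporadicB.HePerm
open Cfsg.Agent.FixBN.HeStab Cfsg.Agent.KFacts.He.Lv Cfsg.Agent.CpAutHe.Cnt Cfsg.Agent.H235.Ore.HeEng

/-! ### The run in pieces (helper30) -/

def x2A : List Gen := [.a]
def s2A : Lv := ⟨1571, [], [(1, 1)], 224⟩
def k2A : List Kl := []
def d2A : List ℕ := []
def l2A : List Lv := [⟨2055, [(1571, 3)], [(1, 1)], 10⟩,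
  ⟨1681, [(1571, 2), (2055, 2), (1580, 2)], [(1, 1)], 4⟩,
  ⟨1301, [(2055, 4), (1681, 4), (1571, 1)], [(1, 2)], 9⟩,
  ⟨509, [(1580, 4), (1324, 3), (1681, 4), (1571, 1)], [], 2⟩,
  ⟨0, [(2055, 4), (1301, 1), (509, 2)], [(1, 0)], 1⟩,
  ⟨1, [(509, 2), (1571, 2), (1681, 2), (1301, 1)], [(1, 0)], 1⟩,
  ⟨32, [(1301, 3), (1571, 2), (1681, 1)], [(1, 0)], 1⟩,
  ⟨8, [(2056, 4), (1681, 4), (32, 2), (1324, 2), (509, 2)], [], 1⟩]
theorem r2A : run1 2 x2A s2A k2A d2A l2A = true := run1_fast (by decide +kernel)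
/-- `2A` -/
theorem b2A : Nat.card ↥(centralizer ({wd x2A} : Set Cfsg.Spor.He)) ≤ 161280 := (card_le1 r2A).trans (by decide)

def x2B : List Gen := [.d]
def s2B : Lv := ⟨65, [], [(1, 0)], 42⟩
def k2B : List Kl := []
def d2B : List ℕ := []
def l2B : List Lv := [⟨1555, [(65, 3)], [(1, 0)], 8⟩,
  ⟨873, [(65, 2), (1555, 2)], [(1, 0)], 2⟩,
  ⟨901, [(873, 3), (65, 2), (1555, 2)], [], 4⟩,
  ⟨24, [(901, 3), (1555, 3)], [(1, 0)], 2⟩,
  ⟨116, [(65, 2), (24, 2), (901, 2), (873, 2), (1555, 1)], [], 2⟩,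
  ⟨167, [(65, 3), (873, 3), (116, 3), (1555, 1)], [(1, 2)], 2⟩,
  ⟨0, [(65, 1), (1555, 1), (901, 1), (24, 1)], [(1, 0)], 1⟩,
  ⟨1, [(873, 3), (24, 1), (116, 1)], [(1, 0)], 1⟩,
  ⟨32, [(141, 4), (167, 2), (24, 2), (391, 1)], [(1, 2)], 1⟩,
  ⟨8, [(65, 4), (32, 2), (116, 4), (0, 2)], [], 1⟩]
theorem r2B : run1 2 x2B s2B k2B d2B l2B = true := run1_fast (by decide +kernel)
/-- `2B` -/
theorem b2B : Nat.card ↥(centralizer ({wd x2B} : Set Cfsg.Spor.He)) ≤ 21504 := (card_le1 r2B).trans (by decide)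

def x3A : List Gen := [.d, .e]
def s3A : Lv := ⟨980, [], [(1, 1)], 756⟩
def k3A : List Kl := []
def d3A : List ℕ := []
def l3A : List Lv := [⟨455, [(980, 3), (964, 4), (992, 2)], [], 5⟩,
  ⟨1885, [(992, 3), (980, 2), (1276, 4)], [(1, 1)], 2⟩,
  ⟨0, [(980, 4)], [(1, 0)], 1⟩,
  ⟨1, [(1885, 4)], [(1, 0)], 1⟩,
  ⟨32, [(1087, 4), (1276, 2), (1414, 2), (992, 2), (455, 1)], [(1, 2)], 1⟩,
  ⟨8, [(455, 2), (1414, 2), (1885, 2), (0, 2)], [(1, 2)], 1⟩]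
theorem r3A : run1 3 x3A s3A k3A d3A l3A = true := run1_fast (by decide +kernel)
/-- `3A` -/
theorem b3A : Nat.card ↥(centralizer ({wd x3A} : Set Cfsg.Spor.He)) ≤ 7560 := (card_le1 r3A).trans (by decide)

def x5A : List Gen := [.a, .c, .d]
def s5A : Lv := ⟨407, [], [(2, 4)], 150⟩
def k5A : List Kl := []
def d5A : List ℕ := []
def l5A : List Lv := [⟨244, [(407, 4), (612, 2), (478, 1)], [(1, 2), (2, 1)], 2⟩,
  ⟨0, [(244, 4)], [(1, 0)], 1⟩,
  ⟨1, [(335, 4), (244, 2), (334, 2)], [], 1⟩,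
  ⟨32, [(478, 3), (334, 2), (2, 2), (1172, 2)], [(1, 2)], 1⟩,
  ⟨8, [(1172, 4), (244, 4), (172, 2)], [], 1⟩]
theorem r5A : run1 5 x5A s5A k5A d5A l5A = true := run1_fast (by decide +kernel)
/-- `5A` -/
theorem b5A : Nat.card ↥(centralizer ({wd x5A} : Set Cfsg.Spor.He)) ≤ 300 := (card_le1 r5A).trans (by decide)

def x4B : List Gen := [.f, .g]
def s4B : Lv := ⟨6, [], [(1, 3)], 96⟩
def k4B : List Kl := []
def d4B : List ℕ := []
def l4B : List Lv := [⟨798, [(43, 4), (38, 1)], [(1, 3)], 4⟩,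
  ⟨0, [(43, 4), (798, 2)], [(2, 0)], 1⟩,
  ⟨1, [(798, 4), (6, 2)], [(2, 0)], 1⟩,
  ⟨32, [(7, 4), (742, 2), (15, 1), (43, 2), (757, 1)], [], 1⟩,
  ⟨8, [(54, 4), (770, 3)], [(1, 3)], 1⟩]
theorem r4B : run1 4 x4B s4B k4B d4B l4B = true := run1_fast (by decide +kernel)
/-- `4B` -/
theorem b4B : Nat.card ↥(centralizer ({wd x4B} : Set Cfsg.Spor.He)) ≤ 384 := (card_le1 r4B).trans (by decide)

def x4C : List Gen := [.b, .f, .g]
def s4C : Lv := ⟨15, [], [(2, 0), (1, 1)], 16⟩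
def k4C : List Kl := []
def d4C : List ℕ := []
def l4C : List Lv := [⟨335, [(1, 3), (15, 1)], [(1, 2), (2, 2)], 4⟩,
  ⟨70, [(335, 4), (284, 2), (15, 1)], [(2, 2)], 2⟩,
  ⟨0, [(335, 4), (370, 4)], [(2, 0)], 1⟩,
  ⟨32, [(292, 3), (291, 2), (195, 2)], [(1, 1)], 1⟩,
  ⟨8, [(335, 4), (16, 3), (292, 2)], [], 1⟩]
theorem r4C : run1 4 x4C s4C k4C d4C l4C = true := run1_fast (by decide +kernel)
/-- `4C` -/
theorem b4C : Nat.card ↥(centralizer ({wd x4C} : Set Cfsg.Spor.He)) ≤ 128 := (card_le1 r4C).trans (by decide)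

def x6A : List Gen := [.a, .d, .e]
def s6A : Lv := ⟨212, [], [(3, 0), (1, 1)], 36⟩
def k6A : List Kl := []
def d6A : List ℕ := []
def l6A : List Lv := [⟨118, [(212, 4), (211, 1)], [(1, 4)], 2⟩,
  ⟨0, [(212, 4)], [(1, 0)], 1⟩,
  ⟨1, [(212, 2), (118, 1)], [(1, 0)], 1⟩,
  ⟨32, [(207, 3), (118, 3), (211, 1)], [(3, 0)], 1⟩,
  ⟨8, [(201, 3), (0, 2), (118, 2), (32, 2)], [], 1⟩]
theorem r6A : run1 6 x6A s6A k6A d6A l6A = true := run1_fast (by decide +kernel)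
/-- `6A` -/
theorem b6A : Nat.card ↥(centralizer ({wd x6A} : Set Cfsg.Spor.He)) ≤ 72 := (card_le1 r6A).trans (by decide)

end Cfsg.Agent.H235.Ore.HeCert
end

-- part: H235/Ore/HeCertC
section
set_option linter.all false

/-!
# Centralizers in the Held group: certificates (helper235)
-/

set_option autoImplicit false
set_option maxRecDepth 100000

namespace Cfsg.Agent.H235.Ore.HeCert

open Subgroup
open Cfsg.Spor Cfsg.Spor.He Cfsg.Agent.SporadicB.HePerm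
open Cfsg.Agent.FixBN.HeStab Cfsg.Agent.KFacts.He.Lv Cfsg.Agent.CpAutHe.Cnt Cfsg.Agent.H235.Ore.HeEng

def x6B : List Gen := [.a, .b, .c]
def s6B : Lv := ⟨343, [], [(3, 0), (1, 3)], 6⟩
def k6B : List Kl := []
def d6B : List ℕ := []
def l6B : List Lv := [⟨1695, [(211, 4), (81, 1)], [(1, 3)], 4⟩,
  ⟨0, [(211, 4), (566, 2)], [(3, 0)], 1⟩,
  ⟨32, [(343, 4), (1695, 2), (566, 2)], [(1, 1)], 1⟩,
  ⟨8, [(1685, 4), (32, 2), (1737, 2)], [(1, 2)], 1⟩]
theorem r6B : run1 6 x6B s6B k6B d6B l6B = true := run1_fast (by decide +kernel)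
/-- `6B` -/
theorem b6B : Nat.card ↥(centralizer ({wd x6B} : Set Cfsg.Spor.He)) ≤ 24 := (card_le1 r6B).trans (by decide)

def x14A : List Gen := [.a, .d, .f, .g]
def s14A : Lv := ⟨240, [], [(3, 3)], 28⟩
def k14A : List Kl := []
def d14A : List ℕ := []
def l14A : List Lv := [⟨1960, [(32, 3), (283, 2)], [(4, 4), (1, 1), (3, 1)], 2⟩,
  ⟨0, [(240, 4), (171, 4), (174, 1)], [(1, 2)], 1⟩,
  ⟨1, [(283, 3), (726, 3)], [(1, 2)], 1⟩,
  ⟨8, [(240, 4), (176, 4), (1872, 3)], [], 1⟩]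
theorem r14A : run1 14 x14A s14A k14A d14A l14A = true := run1_fast (by decide +kernel)
/-- `14A` -/
theorem b14A : Nat.card ↥(centralizer ({wd x14A} : Set Cfsg.Spor.He)) ≤ 56 := (card_le1 r14A).trans (by decide)

def x14C : List Gen := [.b, .g, .d, .c, .f, .d, .f]
def s14C : Lv := ⟨92, [], [(1, 4), (2, 3)], 14⟩
def k14C : List Kl := [⟨83, 665, [(10, 1508, 3), (7, 1500, 2)], [(6, 2)]⟩]
def d14C : List ℕ := [83, 135, 293, 401, 451, 587, 847, 940, 1432, 1478, 1500, 1508, 1674, 1830]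
def l14C : List Lv := [⟨0, [(1538, 3), (1974, 4), (326, 4)], [(1, 1)], 1⟩,
  ⟨1, [(1811, 4), (10, 2)], [(2, 3)], 1⟩,
  ⟨32, [(1894, 4), (781, 4), (113, 2)], [], 1⟩,
  ⟨8, [(693, 4), (1974, 4), (16, 3)], [], 1⟩]
theorem r14C : run1 14 x14C s14C k14C d14C l14C = true := run1_fast (by decide +kernel)
/-- `14C` -/
theorem b14C : Nat.card ↥(centralizer ({wd x14C} : Set Cfsg.Spor.He)) ≤ 14 := (card_le1 r14C).trans (by decide)

def x15A : List Gen := [.c, .g, .d, .g, .c, .b, .d]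
def s15A : Lv := ⟨523, [], [(2, 3), (1, 2)], 15⟩
def k15A : List Kl := [⟨254, 1381, [(5, 1881, 4), (13, 1035, 4), (3, 1869, 2)], [(2, 1)]⟩]
def d15A : List ℕ := [254, 437, 497, 657, 769, 910, 930, 1035, 1139, 1326, 1465, 1720, 1869, 1881, 1927]
def l15A : List Lv := [⟨0, [(1068, 4), (818, 3)], [(2, 2), (5, 1)], 1⟩,
  ⟨32, [(22, 3)], [(2, 3), (1, 1)], 1⟩,
  ⟨8, [(1341, 4), (1296, 4), (1347, 2)], [], 1⟩]
theorem r15A : run1 15 x15A s15A k15A d15A l15A = true := run1_fast (by decide +kernel)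
/-- `15A` -/
theorem b15A : Nat.card ↥(centralizer ({wd x15A} : Set Cfsg.Spor.He)) ≤ 15 := (card_le1 r15A).trans (by decide)

def x21A : List Gen := [.a, .b, .c, .d]
def s21A : Lv := ⟨1440, [], [(1, 3), (2, 4)], 21⟩
def k21A : List Kl := [⟨64, 1718, [(6, 1016, 3), (1, 803, 2)], [(2, 3)]⟩]
def d21A : List ℕ := [64, 123, 214, 228, 360, 791, 803, 809, 999, 1016, 1018, 1019, 1021, 1030, 1776, 1882, 1940, 1978, 1991, 1992, 2032]
def l21A : List Lv := [⟨0, [(1445, 2), (1238, 1), (386, 1)], [(7, 0), (3, 2)], 1⟩,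
  ⟨32, [(538, 2), (1496, 2), (36, 2)], [(1, 4)], 1⟩,
  ⟨8, [(998, 3), (1238, 2)], [(7, 0)], 1⟩]
theorem r21A : run1 21 x21A s21A k21A d21A l21A = true := run1_fast (by decide +kernel)
/-- `21A` -/
theorem b21A : Nat.card ↥(centralizer ({wd x21A} : Set Cfsg.Spor.He)) ≤ 21 := (card_le1 r21A).trans (by decide)

def x21C : List Gen := [.b, .e, .d, .c, .f, .d, .c]
def s21C : Lv := ⟨1868, [], [(1, 4), (4, 2)], 21⟩
def k21C : List Kl := [⟨65, 14, [(2, 1004, 3), (8, 1154, 2)], [(2, 2), (3, 1)]⟩]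
def d21C : List ℕ := [65, 224, 279, 356, 619, 689, 712, 723, 802, 805, 845, 1004, 1046, 1105, 1123, 1154, 1155, 1169, 1344, 1766, 1771]
def l21C : List Lv := [⟨0, [(1457, 3), (1034, 2), (1822, 2)], [(2, 2)], 1⟩,
  ⟨32, [(1457, 3), (1077, 3)], [(1, 2)], 1⟩,
  ⟨8, [(1457, 3), (1125, 3), (865, 2)], [], 1⟩]
theorem r21C : run1 21 x21C s21C k21C d21C l21C = true := run1_fast (by decide +kernel)
/-- `21C` -/
theorem b21C : Nat.card ↥(centralizer ({wd x21C} : Set Cfsg.Spor.He)) ≤ 21 := (card_le1 r21C).trans (by decide)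

def x28A : List Gen := [.a, .b, .d, .f, .g]
def s28A : Lv := ⟨580, [], [(5, 4)], 28⟩
def k28A : List Kl := [⟨372, 1650, [(1, 1658, 4), (9, 1615, 4)], [(5, 4)]⟩]
def d28A : List ℕ := [372, 462, 622, 647, 656, 831, 918, 1009, 1076, 1087, 1135, 1152, 1195, 1226, 1229, 1242, 1243, 1308, 1357, 1385, 1394, 1425, 1431, 1615, 1650, 1658, 1800, 1805]
def l28A : List Lv := [⟨0, [(818, 3), (1756, 3)], [(2, 2)], 1⟩,
  ⟨32, [(818, 3), (567, 3)], [(6, 4)], 1⟩,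
  ⟨8, [(818, 3), (200, 3), (1528, 4)], [], 1⟩]
theorem r28A : run1 28 x28A s28A k28A d28A l28A = true := run1_fast (by decide +kernel)
/-- `28A` -/
theorem b28A : Nat.card ↥(centralizer ({wd x28A} : Set Cfsg.Spor.He)) ≤ 28 := (card_le1 r28A).trans (by decide)

end Cfsg.Agent.H235.Ore.HeCert
end
end
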